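import Groth.Agent.Sga4h.H927.HMod
import Groth.Agent.Etcore.LamChart
import Groth.Agent.Etrest.SHPoint
import Groth.Agent.Etrest.HPush

/-!
# Finiteness and vanishing of cohomology in dimension zero
-/

set_option autoImplicit false
universe u

open CategoryTheory CategoryTheory.Limits AlgebraicGeometry Opposite

namespace Groth.Agent.Sga4h.H927.PtFin

open Groth.Agent.Sga4h.H927.HMod Groth.Agent.Etcore.StalkFG Groth.Agent.Etcore.FinPushFG

variable {Λ : Type} [CommRing Λ]

theorem fgh_pull [IsNoetherianRing Λ] {X : Scheme.{u}} (L : EtLam.Sheaf Λ X)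
    (hL : StalkFG L.carrier L.act) {Ω : Type u} [Field Ω] [IsSepClosed Ω]
    (ξ : Spec (CommRingCat.of Ω) ⟶ X) :
    FGH (Spec (CommRingCat.of Ω)) (EtLam.pullback ξ L).carrier (EtLam.pullback ξ L).act 0 :=
  fg_zero_of_stalks (A := Unit) (Ω := fun _ => Ω) (fun _ => 𝟙 _)
    (fun x => ⟨(), by
      have : Subsingleton (Spec (CommRingCat.of Ω)) :=
        inferInstanceAs (Subsingleton (PrimeSpectrum Ω))
      exact Subsingleton.elim _ _⟩)
    (fun _ => (hL.pull ξ) Ω (𝟙 _))

/-- The fibres of a constructible sheaf are finite modules. -/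
theorem finite_HM [IsNoetherianRing Λ] {X : Scheme.{u}} (L : EtLam.Sheaf Λ X)
    (hL : EtLam.IsConstructible L) {Ω : Type u} [Field Ω] [IsSepClosed Ω]
    (ξ : Spec (CommRingCat.of Ω) ⟶ X) : Module.Finite Λ (HM (EtLam.pullback ξ L) 0) :=
  (fgH_iff _ (EtLam.pullback ξ L) 0).1
    (fgh_pull L (Groth.Agent.Etcore.LamChart.stalkFG L hL) ξ)

/-- The cohomology of a finite scheme over a separably closed field vanishes in positive degrees. -/
theorem subsingleton_H {Ω : Type u} [Field Ω] [IsSepClosed Ω] {X : Scheme.{u}}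
    (f : X ⟶ Spec (CommRingCat.of Ω)) [IsFinite f] (F : EtCoh.Ab X) (n : ℕ) (hn : 0 < n) :
    Subsingleton (EtCoh.H X F n) := by
  obtain ⟨e⟩ := Groth.Agent.Etrest.HPush.nonempty_HPushEquiv_of_isFinite f F n
  have := Groth.Agent.Etrest.SHPoint.subsingleton_H_of_sepClosed Ω ((EtCoh.push f).obj F) n hn
  exact e.toEquiv.subsingleton

theorem subsingleton_HM {Ω : Type u} [Field Ω] [IsSepClosed Ω] {X : Scheme.{u}}
    (f : X ⟶ Spec (CommRingCat.of Ω)) [IsFinite f] (L : EtLam.Sheaf Λ X) (n : ℕ) (hn : 0 < n) :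
    Subsingleton (HM L n) :=
  subsingleton_H f L.carrier n hn

end Groth.Agent.Sga4h.H927.PtFin
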