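import Groth.Agent.Sga4h.H927.ExtLoc

/-!
# The product of the local factors of an extension by zero

`j : X₀ ⟶ P₀` an open immersion of `k`-schemes locally of finite type:
`∏ᶠ` over the closed points `y` of `P₀` of degree `≤ N` of `locFactor b y (j_! L)` equals `∏ᶠ` over the closed points
`x` of `X₀` of degree `≤ N` of `locFactor a x L`.
-/

set_option autoImplicit false
universe u
open CategoryTheory CategoryTheory.Limits AlgebraicGeometry Opposite Polynomial

namespace Groth.Agent.Sga4h.H927.ExtFac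

open Groth.Agent.Sga4h.H927.HMod FinStalk CycInv CycFactor ExtLoc Groth.Agent.Sga4h.H925.Defs

section deg

variable {k : Type u} [Field k] {X₀ P₀ : Scheme.{u}} (j : X₀ ⟶ P₀) [IsOpenImmersion j]
  (a : X₀ ⟶ Spec (CommRingCat.of k)) (b : P₀ ⟶ Spec (CommRingCat.of k)) (hj : j ≫ b = a)

include hj in
theorem resAlgHom_comp (x : X₀) :
    (j.residueFieldMap x).hom.comp (FinFr.resAlgHom b (j x)) = FinFr.resAlgHom a x := by
  have h : Spec.map (CommRingCat.ofHom (FinFr.resAlgHom b (j x)) ≫ j.residueFieldMap x) =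
      Spec.map (CommRingCat.ofHom (FinFr.resAlgHom a x)) := by
    rw [Spec.map_comp]
    have h1 : Spec.map (CommRingCat.ofHom (FinFr.resAlgHom b (j x))) =
      P₀.fromSpecResidueField (j x) ≫ b := Spec.map_preimage _
    have h2 : Spec.map (CommRingCat.ofHom (FinFr.resAlgHom a x)) =
      X₀.fromSpecResidueField x ≫ a := Spec.map_preimage _
    rw [h1, h2, ← Category.assoc, Scheme.Hom.SpecMap_residueFieldMap_fromSpecResidueField,
      Category.assoc, hj]
  exact congrArg CommRingCat.Hom.hom (Spec.map_injective h)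

include hj in
/-- The degree of a point does not change in an open subscheme. -/
theorem ptDeg_comp (x : X₀) : FinFr.ptDeg b (j x) = FinFr.ptDeg a x := by
  unfold FinFr.ptDeg
  let _ : Algebra k (P₀.residueField (j x) : Type u) := (FinFr.resAlgHom b (j x)).toAlgebra
  let _ : Algebra k (X₀.residueField x : Type u) := (FinFr.resAlgHom a x).toAlgebra
  have hb : Function.Bijective (j.residueFieldMap x).hom :=
    (ConcreteCategory.isIso_iff_bijective (j.residueFieldMap x)).1 inferInstance
  let f : (P₀.residueField (j x) : Type u) →ₐ[k] (X₀.residueField x : Type u) :=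
    { (j.residueFieldMap x).hom with
      commutes' := fun r => RingHom.congr_fun (resAlgHom_comp j a b hj x) r }
  exact (AlgEquiv.ofBijective f hb).toLinearEquiv.finrank_eq

theorem isClosed_iff [JacobsonSpace P₀] (x : X₀) :
    IsClosed ({j x} : Set P₀) ↔ IsClosed ({x} : Set X₀) := by
  have h := j.isOpenEmbedding.preimage_closedPoints
  have h2 : x ∈ j ⁻¹' closedPoints P₀ ↔ x ∈ closedPoints X₀ := by rw [h]
  exact h2

/-- The closed points of degree at most `N` of an open subscheme. -/
noncomputable def ptMap [LocallyOfFiniteType b] (N : ℕ)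
    (x : {x : FinFr.ClosedPt X₀ // FinFr.ptDeg a x.1 ≤ N}) :
    {x : FinFr.ClosedPt P₀ // FinFr.ptDeg b x.1 ≤ N} :=
  haveI : JacobsonSpace P₀ := LocallyOfFiniteType.jacobsonSpace b
  ⟨⟨j x.1.1, (isClosed_iff j x.1.1).2 x.1.2⟩, (ptDeg_comp j a b hj x.1.1).le.trans x.2⟩

theorem ptMap_injective [LocallyOfFiniteType b] (N : ℕ) :
    Function.Injective (ptMap j a b hj N) := by
  intro x y h
  apply Subtype.ext
  apply Subtype.ext
  exact j.isOpenEmbedding.injective (congrArg (fun z => z.1.1) h)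

theorem mem_range_ptMap [LocallyOfFiniteType b] (N : ℕ)
    (y : {x : FinFr.ClosedPt P₀ // FinFr.ptDeg b x.1 ≤ N}) (hy : y.1.1 ∈ Set.range j) :
    y ∈ Set.range (ptMap j a b hj N) := by
  have : JacobsonSpace P₀ := LocallyOfFiniteType.jacobsonSpace b
  obtain ⟨x, hx⟩ := hy
  refine ⟨⟨⟨x, (isClosed_iff j x).1 ?_⟩, ?_⟩, ?_⟩
  · rw [hx]; exact y.1.2
  · rw [← ptDeg_comp j a b hj x, hx]; exact y.2
  · apply Subtype.ext
    apply Subtype.ext
    exact hx

end deg

section fac

variable {Λ : Type} [Field Λ] {k : Type u} [Field k] [Fintype k] (K : Type u) [Field K] [Algebra k K]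
  [Algebra.IsAlgebraic k K] [Fact FinFr.PullExact.{u}] {X₀ P₀ : Scheme.{u}}
  (j : X₀ ⟶ P₀) [IsOpenImmersion j]
  (a : X₀ ⟶ Spec (CommRingCat.of k)) (b : P₀ ⟶ Spec (CommRingCat.of k)) (hj : j ≫ b = a)

omit [Fact FinFr.PullExact.{u}] in
/-- The residue field of a closed point is finite. -/
theorem finite_residueField [LocallyOfFiniteType b] (x : P₀) (hx : IsClosed ({x} : Set P₀)) :
    Finite (P₀.residueField x : Type u) := by
  letI := Groth.Agent.Sga4h.H911.PtCount.resAlg k b x
  have := Groth.Agent.Sga4h.H616.RatDeg.finite_resAlg b x hx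
  exact Module.finite_of_finite k

include hj K in
/-- The product of the local factors of `j_! L`. -/
theorem finprod_extZero [IsAlgClosed K] [LocallyOfFiniteType b] (L : EtLam.Sheaf Λ X₀)
    (hL : FinFib L) (hL' : FinFib (FinFr.extZeroLam j L)) (N : ℕ) :
    ∏ᶠ x : {x : FinFr.ClosedPt P₀ // FinFr.ptDeg b x.1 ≤ N},
        FinFr.locFactor b x.1.1 (FinFr.extZeroLam j L) =
      ∏ᶠ x : {x : FinFr.ClosedPt X₀ // FinFr.ptDeg a x.1 ≤ N}, FinFr.locFactor a x.1.1 L := by
  have h1 : Set.mulIndicator (Set.range (ptMap j a b hj N))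
      (fun x : {x : FinFr.ClosedPt P₀ // FinFr.ptDeg b x.1 ≤ N} =>
        FinFr.locFactor b x.1.1 (FinFr.extZeroLam j L)) =
      fun x : {x : FinFr.ClosedPt P₀ // FinFr.ptDeg b x.1 ≤ N} =>
        FinFr.locFactor b x.1.1 (FinFr.extZeroLam j L) := by
    rw [Set.mulIndicator_eq_self]
    intro x hx
    by_contra h
    exact hx (locFactor_extZero_of_not_mem j b x.1.1
      (fun h2 => h (mem_range_ptMap j a b hj N x h2)) L)
  rw [← h1, ← finprod_mem_def, finprod_mem_range (ptMap_injective j a b hj N)]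
  refine finprod_congr fun x => ?_
  have hfa : LocallyOfFiniteType a := by rw [← hj]; infer_instance
  have := finite_residueField a x.1.1 x.1.2
  exact locFactor_extZero K j a b hj x.1.1 L hL hL'

include hj in
/-- The coefficientwise identity for `j_! L` on `P₀` gives the one for `L` on `X₀`. -/
theorem coeff_eq_of_LF [IsAlgClosed K] [LocallyOfFiniteType b] (L : EtLam.Sheaf Λ X₀)
    (hL : FinFib L) (hL' : FinFib (FinFr.extZeroLam j L)) (N : ℕ)
    (h : LF K b (FinFr.extZeroLam j L) N) (m : ℕ) (hm : m ≤ N) :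
    Polynomial.coeff ((∏ᶠ i : {i : ℕ // Odd i}, FinFr.charRev (FinFr.frobC (K := K) j b L i.1)) *
        ∏ᶠ x : {x : FinFr.ClosedPt X₀ // FinFr.ptDeg a x.1 ≤ N}, FinFr.locFactor a x.1.1 L) m =
      Polynomial.coeff (∏ᶠ i : {i : ℕ // Even i}, FinFr.charRev (FinFr.frobC (K := K) j b L i.1)) m := by
  rw [← finprod_extZero K j a b hj L hL hL' N]
  exact h m hm

end fac

end Groth.Agent.Sga4h.H927.ExtFac
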