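import Groth.Agent.Sga4h.H927.PtTrace

/-!
# The trace formula on `H⁰` of a finite scheme over a finite field
-/

set_option autoImplicit false
universe u

open CategoryTheory CategoryTheory.Limits AlgebraicGeometry Opposite
open scoped BigOperators

namespace Groth.Agent.Sga4h.H927.PtFrob

open FrobFix PtH0 PtTrace Groth.Agent.Sga4h.H927.HMod

section conv

variable {Λ : Type} [CommRing Λ] {k : Type u} [Field k] {K : Type u} [Field K] [Algebra k K]
variable [Fintype k] [Algebra.IsAlgebraic k K] [Fact FinFr.PullExact.{u}]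

/-- The trace of the geometric Frobenius in terms of the sealed modules. -/
theorem trace_frob_eq {X₀ : Scheme.{u}} (a : X₀ ⟶ Spec (CommRingCat.of k)) (L : EtLam.Sheaf Λ X₀)
    (n : ℕ) :
    LinearMap.trace Λ _ (FinFr.frob (K := K) a L n) =
      LinearMap.trace Λ _ (galHM (K := K) a (FinFr.arith k K).symm L n) :=
  trace_galLin_eq a _ L n

/-- The local trace in terms of the sealed modules. -/
theorem locTrace_eq {X₀ : Scheme.{u}} (x : Spec (CommRingCat.of k) ⟶ X₀) (L : EtLam.Sheaf Λ X₀) :
    FinFr.locTrace (K := K) x L =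
      LinearMap.trace Λ _ (galHM (K := K) (𝟙 (Spec (CommRingCat.of k))) (FinFr.arith k K).symm
        (EtLam.pullback x L) 0) :=
  trace_frob_eq (𝟙 _) (EtLam.pullback x L) 0

variable {X₀ : Scheme.{u}} {a : X₀ ⟶ Spec (CommRingCat.of k)}

omit [Fact FinFr.PullExact.{u}] in
variable (K a) in
theorem bijective_ofRat [IsAffine X₀] : Function.Bijective
    (fun x : FinFr.RatPt a => (⟨ofRat x, act_ofRat _ x⟩ :
      {ξ : KPt K a // act a (FinFr.arith k K).symm ξ = ξ})) := by
  constructor
  · intro x y h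
    exact ofRat_injective (congrArg Subtype.val h)
  · rintro ⟨ξ, hξ⟩
    obtain ⟨x, hx⟩ := exists_ofRat ξ ((act_symm_eq_iff a _ ξ).1 hξ)
    exact ⟨x, Subtype.ext hx⟩

end conv

variable {Λ : Type} [Field Λ] {k K : Type u} [Field k] [Fintype k] [Field K]
    [Algebra k K] [IsAlgClosed K] [Algebra.IsAlgebraic k K] [Fact FinFr.PullExact.{u}]
    {X₀ : Scheme.{u}} (a : X₀ ⟶ Spec (CommRingCat.of k)) [IsFinite a]

/-- The trace formula on `H⁰` of a finite scheme over a finite field. -/
theorem trace_galHM_zero (L : EtLam.Sheaf Λ X₀)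
    (hfin : ∀ ξ : KPt K a, Module.Finite Λ (HM (EtLam.pullback ξ.1 L) 0)) :
    LinearMap.trace Λ _ (galHM (K := K) a (FinFr.arith k K).symm L 0) =
      ∑ᶠ x : FinFr.RatPt a, FinFr.locTrace (K := K) x.1 L := by
  have hX : IsAffine X₀ := isAffine_of_isAffineHom a
  refine (trace_galHM a (FinFr.arith k K).symm L hfin).trans ?_
  refine (finsum_eq_of_bijective _ (bijective_ofRat K a) fun x => ?_).symm
  exact (locTrace_eq x.1 L).trans (trace_ptGal_ofRat _ x L 0).symm

/-- The trace formula on `H⁰` of a finite scheme over a finite field. -/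
theorem trace_frob_zero (L : EtLam.Sheaf Λ X₀)
    (hfin : ∀ ξ : KPt K a, Module.Finite Λ (HM (EtLam.pullback ξ.1 L) 0)) :
    LinearMap.trace Λ _ (FinFr.frob (K := K) a L 0) =
      ∑ᶠ x : FinFr.RatPt a, FinFr.locTrace (K := K) x.1 L :=
  (trace_frob_eq a L 0).trans (trace_galHM_zero a L hfin)

end Groth.Agent.Sga4h.H927.PtFrob
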