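import Groth.Agent.Sga4h.H927.CycFactor
import Groth.Agent.Sga4h.H925.Defs

/-!
# The local terms `locV` for the determinant and the trace
-/

set_option autoImplicit false
universe u

open CategoryTheory CategoryTheory.Limits AlgebraicGeometry Opposite Polynomial

namespace Groth.Agent.Sga4h.H927.CycInv

open FinStalk CycFactor Groth.Agent.Sga4h.H925.Defs Groth.Agent.Sga4h.H925.DetInv
open Groth.Agent.Sga4h.H925.Inv

variable {Λ : Type} [Field Λ] {k : Type u} [Field k] [Fintype k] (K : Type u) [Field K] [Algebra k K]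
  [Algebra.IsAlgebraic k K] [IsAlgClosed K] [Fact FinFr.PullExact.{u}]
  {P : Scheme.{u}} (b : P ⟶ Spec (CommRingCat.of k)) (x : P)

theorem charRev_frobK [hx : Finite (P.residueField x : Type u)]
    (M : EtLam.Sheaf Λ P) (hM : FinFib M) :
    FinFr.charRev (frobK K (P.fromSpecResidueField x ≫ b)
      (EtLam.pullback (P.fromSpecResidueField x) M) 0) = FinFr.locFactor b x M :=
  charRev_frob_eq_locFactor K b x M hM

theorem trace_frobK [hx : Finite (P.residueField x : Type u)]
    (M : EtLam.Sheaf Λ P) (hM : FinFib M) (hd : 1 < FinFr.ptDeg b x) :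
    LinearMap.trace Λ _ (frobK K (P.fromSpecResidueField x ≫ b)
      (EtLam.pullback (P.fromSpecResidueField x) M) 0) = 0 :=
  trace_frob_eq_zero K b x M hM hd

/-- The local term for the determinant. -/
theorem locV_detInv [hx : Finite (P.residueField x : Type u)]
    (M : EtLam.Sheaf Λ P) (hM : FinFib M) :
    locV K (detInv Λ 1) b x M = Additive.ofMul (psUnit (FinFr.locFactor b x M)) := by
  rw [locV, detInv_one_val, charRev_frobK K b x M hM]

/-- The local term for the trace at points of degree `> 1`. -/
theorem locV_traceInv [hx : Finite (P.residueField x : Type u)]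
    (M : EtLam.Sheaf Λ P) (hM : FinFib M) (hd : 1 < FinFr.ptDeg b x) :
    locV K (traceInv Λ) b x M = 0 :=
  trace_frobK K b x M hM hd

omit [Algebra.IsAlgebraic k K] [IsAlgClosed K] [Field K] [Algebra k K] [Fintype k] in
theorem coeff_zero_locFactor (hd : FinFr.ptDeg b x ≠ 0) (M : EtLam.Sheaf Λ P) :
    (FinFr.locFactor b x M).coeff 0 = 1 := by
  rw [FinFr.locFactor]
  split_ifs with h
  · exact coeff_zero_expand hd (coeff_zero_charRev _)
  · exact coeff_one_zero

omit [Algebra.IsAlgebraic k K] [IsAlgClosed K] [Field K] [Algebra k K] [Fintype k] in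
theorem coeff_locFactor (M : EtLam.Sheaf Λ P) {m : ℕ} (hm : 0 < m) (hd : m < FinFr.ptDeg b x) :
    (FinFr.locFactor b x M).coeff m = 0 := by
  rw [FinFr.locFactor]
  split_ifs with h
  · rw [coeff_expand (by omega), if_neg]
    intro h2
    exact absurd (Nat.le_of_dvd hm h2) (by omega)
  · rw [Polynomial.coeff_one, if_neg (by omega)]

/-- Points of degree `> N` do not contribute to the local side. -/
theorem locV_detInvN [hx : Finite (P.residueField x : Type u)]
    (M : EtLam.Sheaf Λ P) (hM : FinFib M) {N : ℕ} (hd : N < FinFr.ptDeg b x) :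
    locV K (detInvN Λ N) b x M = 0 := by
  have h1 : locV K (detInvN Λ N) b x M =
      trMap Λ N (Additive.ofMul (psUnit (FinFr.locFactor b x M))) := by
    rw [← locV_detInv K b x M hM]
    rfl
  rw [h1]
  apply Additive.toMul.injective
  ext1
  change Ideal.Quotient.mk _ ((psUnit (FinFr.locFactor b x M) : (PowerSeries Λ)ˣ) : PowerSeries Λ) = 1
  rw [val_psUnit (coeff_zero_locFactor b x (by omega) M), ← map_one (Ideal.Quotient.mk _),
    Ideal.Quotient.eq, Ideal.mem_span_singleton, PowerSeries.X_pow_dvd_iff]
  intro m hm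
  rw [map_sub, Polynomial.coeff_coe]
  rcases Nat.eq_zero_or_pos m with rfl | h0
  · rw [coeff_zero_locFactor b x (by omega) M]
    simp
  · rw [coeff_locFactor b x M h0 (by omega), PowerSeries.coeff_one, if_neg (by omega), sub_zero]

end Groth.Agent.Sga4h.H927.CycInv
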