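import Groth.Prelude.Def_FinFr

/-!
# Extension by zero along the identity
-/

set_option autoImplicit false
universe u

open CategoryTheory CategoryTheory.Limits AlgebraicGeometry Opposite

namespace Groth.Agent.Sga4h.H927.ExtZeroId

/-- The functor `compEtale (𝟙 X)` is the identity. -/
noncomputable def compEtaleId (X : Scheme.{u}) :
    EtShriek.compEtale (𝟙 X) ≅ 𝟭 X.Etale :=
  MorphismProperty.Over.mapId (P := EtCoh.etaleMP.{u}) (Q := ⊤) X (𝟙 X)

noncomputable def restrAlongId (X : Scheme.{u}) :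
    EtShriek.restrAlong (𝟙 X) ≅ 𝟭 (EtCoh.Ab X) :=
  NatIso.ofComponents
    (fun F => (fullyFaithfulSheafToPresheaf _ _).preimageIso
      (Functor.isoWhiskerRight (NatIso.op (compEtaleId X).symm) F.obj ≪≫ Functor.leftUnitor _))
    (fun {F G} f => by
      apply (fullyFaithfulSheafToPresheaf _ _).map_injective
      simp only [Functor.map_comp, Functor.FullyFaithful.preimageIso_hom, Functor.id_map]
      ext V x
      exact congrArg (fun φ => φ x) (congrArg AddCommGrpCat.Hom.hom
        (f.hom.naturality ((compEtaleId X).symm.hom.app V.unop).op)).symm)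

/-- `(𝟙 X)_!` is the identity functor. -/
noncomputable def extZeroId (X : Scheme.{u}) :
    EtShriek.extZero (𝟙 X) ≅ 𝟭 (EtCoh.Ab X) :=
  Adjunction.leftAdjointUniq (EtShriek.extZeroAdj (𝟙 X))
    (Adjunction.id.ofNatIsoRight (restrAlongId X).symm)

variable {Λ : Type} [CommRing Λ]

/-- The isomorphism `(𝟙 X)_! L ≅ L` of sheaves of `Λ`-modules: the underlying map. -/
noncomputable def lamHom {X : Scheme.{u}} (L : EtLam.Sheaf Λ X) :
    (FinFr.extZeroLam (𝟙 X) L).carrier ⟶ L.carrier :=
  (extZeroId X).hom.app L.carrier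

instance isIso_lamHom {X : Scheme.{u}} (L : EtLam.Sheaf Λ X) : IsIso (lamHom L) :=
  NatIso.isIso_app_of_isIso (extZeroId X).hom L.carrier

theorem lamHom_act {X : Scheme.{u}} (L : EtLam.Sheaf Λ X) (r : Λ) :
    (FinFr.extZeroLam (𝟙 X) L).act r ≫ lamHom L = lamHom L ≫ L.act r :=
  (extZeroId X).hom.naturality (L.act r)

end Groth.Agent.Sga4h.H927.ExtZeroId
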