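import Groth.Agent.Sga4h.H927.ExtFac
import Groth.Agent.Sga4h.H911.ClosedProd
import Groth.Agent.Sga4h.H923.ExtCons
import Groth.Agent.Sga4h.H925.LFOf

/-!
# Assembly of the cohomological expression of the L-function from the vanishing of the defect
-/

set_option autoImplicit false
universe u
open CategoryTheory CategoryTheory.Limits AlgebraicGeometry Opposite Polynomial

namespace Groth.Agent.Sga4h.H927.LFAsm

open FinStalk CycInv ExtFac Groth.Agent.Sga4h.H925.Defs

variable {Λ : Type} [Field Λ] [Finite Λ] {k : Type u} [Field k] [Fintype k] (K : Type u) [Field K]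
  [Algebra k K] [Algebra.IsAlgebraic k K] [IsAlgClosed K] [Fact FinFr.PullExact.{u}]

/-- The L-function identity modulo `T^(N+1)` for a constructible sheaf on a proper scheme. -/
theorem LF_of_cons {P : Scheme.{u}} (b : P ⟶ Spec (CommRingCat.of k)) [LocallyOfFiniteType b] [QuasiCompact b]
    (M : EtLam.Sheaf Λ P) (hM : EtPBC.IsConstructible M.carrier) (N m₀ : ℕ)
    (hm₀ : ∀ i, m₀ ≤ i → Subsingleton (HK K b M i))
    (h : defect K (detInvN Λ N) b N M = 0) : LF K b M N :=
  H925.LFOf.LF_of_defect K b M N m₀ hm₀ (H911.ClosedProd.finite_closedLE k K b N)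
    (fun x hx => by
      have := finite_residueField b x hx
      exact charRev_frobK K b x M (finFib_of_cons hM)) h

/-- The conclusion of `S4258` from the vanishing of the defect on proper schemes. -/
theorem main (N : ℕ) (H : ∀ {P : Scheme.{u}} (b : P ⟶ Spec (CommRingCat.of k)) [IsProper b] (L : EtLam.Sheaf Λ P),
      EtPBC.IsConstructible L.carrier → defect K (detInvN Λ N) b N L = 0)
    (hvan : ∀ {P : Scheme.{u}} (b : P ⟶ Spec (CommRingCat.of k)) [IsProper b],
      ∃ m₀ : ℕ, ∀ i, m₀ ≤ i → ∀ M : EtLam.Sheaf Λ P, Subsingleton (HK K b M i))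
    {X₀ P₀ : Scheme.{u}} (a : X₀ ⟶ Spec (CommRingCat.of k))
    (j : X₀ ⟶ P₀) [IsOpenImmersion j] (b : P₀ ⟶ Spec (CommRingCat.of k)) [IsProper b] (hj : j ≫ b = a)
    (L : EtLam.Sheaf Λ X₀) (hL : EtLam.IsConstructible L) (m : ℕ) (hm : m ≤ N) :
    Polynomial.coeff ((∏ᶠ i : {i : ℕ // Odd i}, FinFr.charRev (FinFr.frobC (K := K) j b L i.1)) *
        ∏ᶠ x : {x : FinFr.ClosedPt X₀ // FinFr.ptDeg a x.1 ≤ N}, FinFr.locFactor a x.1.1 L) m =
      Polynomial.coeff (∏ᶠ i : {i : ℕ // Even i}, FinFr.charRev (FinFr.frobC (K := K) j b L i.1)) m := by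
  have hc : EtPBC.IsConstructible (FinFr.extZeroLam j L).carrier := H923.ExtCons.cons_extZero j b L hL
  obtain ⟨m₀, hm₀⟩ := hvan b
  exact coeff_eq_of_LF K j a b hj L (finFib_of_lamCons hL) (finFib_of_cons hc) N
    (LF_of_cons K b _ hc N m₀ (fun i hi => hm₀ i hi _) (H b _ hc)) m hm

end Groth.Agent.Sga4h.H927.LFAsm
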