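import Groth.Agent.Sga4h.H927.HMod

/-!
# Basic facts on the sealed modules `HM`
-/

set_option autoImplicit false
universe u

open CategoryTheory CategoryTheory.Limits AlgebraicGeometry Opposite

namespace Groth.Agent.Sga4h.H927.HMod

open Groth.Agent.EtpbcB Groth.Agent.Etcore.PullCoh

variable {Λ : Type} [CommRing Λ]

attribute [local instance] HRel.pull_exact

theorem fact_pullExact : Fact FinFr.PullExact.{u} := ⟨fun _ _ g => HRel.pull_exact g⟩

theorem Equi.inv {X : Scheme.{u}} {L M : EtLam.Sheaf Λ X} {φ : L.carrier ⟶ M.carrier} [IsIso φ]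
    (h : Equi L M φ) : Equi M L (CategoryTheory.inv φ) := fun r => by
  rw [IsIso.comp_inv_eq, Category.assoc, h, IsIso.inv_hom_id_assoc]

theorem Equi.comp {X : Scheme.{u}} {L M N : EtLam.Sheaf Λ X} {φ : L.carrier ⟶ M.carrier}
    {ψ : M.carrier ⟶ N.carrier} (h : Equi L M φ) (h' : Equi M N ψ) : Equi L N (φ ≫ ψ) := fun r => by
  rw [← Category.assoc, h, Category.assoc, h', Category.assoc]

theorem Equi.id {X : Scheme.{u}} (L : EtLam.Sheaf Λ X) : Equi L L (𝟙 L.carrier) := fun r => by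
  rw [Category.comp_id, Category.id_comp]

theorem mapHM_congr {X : Scheme.{u}} {L M : EtLam.Sheaf Λ X} {φ φ' : L.carrier ⟶ M.carrier}
    (e : φ = φ') (h : Equi L M φ) (n : ℕ) (x : HM L n) : mapHM φ h n x = mapHM φ' (e ▸ h) n x := by
  subst e
  rfl

theorem bijective_mapHM {X : Scheme.{u}} {L M : EtLam.Sheaf Λ X} (φ : L.carrier ⟶ M.carrier)
    [IsIso φ] (h : Equi L M φ) (n : ℕ) : Function.Bijective (mapHM φ h n) := by
  refine Function.bijective_iff_has_inverse.2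
    ⟨mapHM (CategoryTheory.inv φ) h.inv n, fun x => ?_, fun x => ?_⟩
  · rw [mapHM_comp_apply _ _ _ _ (h.comp h.inv), mapHM_congr (IsIso.hom_inv_id φ)]
    exact mapHM_id_apply _ n x
  · rw [mapHM_comp_apply _ _ _ _ (h.inv.comp h), mapHM_congr (IsIso.inv_hom_id φ)]
    exact mapHM_id_apply _ n x

theorem viaHM_comp {X Y Z T : Scheme.{u}} (f : X ⟶ Y) (g : Y ⟶ Z) (h : X ⟶ Z)
    (tX : X ⟶ T) (tY : Y ⟶ T) (tZ : Z ⟶ T) (w : f ≫ g = h) (wf : f ≫ tY = tX)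
    (wg : g ≫ tZ = tY) (wh : h ≫ tZ = tX) (L : EtLam.Sheaf Λ T) (n : ℕ) :
    viaHM f tY tX wf L n ∘ₗ viaHM g tZ tY wg L n = viaHM h tZ tX wh L n :=
  LinearMap.ext fun x => viaHM_comp_apply f g h tX tY tZ w wf wg wh L n x

theorem viaHM_congr {X Y Z : Scheme.{u}} {f f' : X ⟶ Y} (h : f = f') (t : Y ⟶ Z) (f₀ : X ⟶ Z)
    (w : f ≫ t = f₀) (L : EtLam.Sheaf Λ Z) (n : ℕ) :
    viaHM f t f₀ w L n = viaHM f' t f₀ (h ▸ w) L n := by
  subst h
  rfl

theorem bijective_viaHM {X Y Z : Scheme.{u}} (f : X ⟶ Y) [IsIso f] (t : Y ⟶ Z) (f₀ : X ⟶ Z)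
    (w : f ≫ t = f₀) (L : EtLam.Sheaf Λ Z) (n : ℕ) :
    Function.Bijective (viaHM f t f₀ w L n) := by
  have w' : CategoryTheory.inv f ≫ f₀ = t := by rw [← w, IsIso.inv_hom_id_assoc]
  refine Function.bijective_iff_has_inverse.2
    ⟨viaHM (CategoryTheory.inv f) f₀ t w' L n, fun x => ?_, fun x => ?_⟩
  · rw [viaHM_comp_apply (CategoryTheory.inv f) f (𝟙 _) t f₀ t (IsIso.inv_hom_id f) _ _
      (Category.id_comp _)]
    exact viaHM_id_apply t _ L n x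
  · rw [viaHM_comp_apply f (CategoryTheory.inv f) (𝟙 _) f₀ t f₀ (IsIso.hom_inv_id f) _ _
      (Category.id_comp _)]
    exact viaHM_id_apply f₀ _ L n x

/-- Change of the reference scheme. -/
noncomputable def chgHM {Y Z T : Scheme.{u}} (t : Y ⟶ Z) (s : Z ⟶ T) (ts : Y ⟶ T) (w : t ≫ s = ts)
    (L : EtLam.Sheaf Λ T) (n : ℕ) :
    HM (EtLam.pullback t (EtLam.pullback s L)) n →ₗ[Λ] HM (EtLam.pullback ts L) n :=
  mapHM (thL t s ts w L) (equi_thL t s ts w L) n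

theorem bijective_chgHM {Y Z T : Scheme.{u}} (t : Y ⟶ Z) (s : Z ⟶ T) (ts : Y ⟶ T) (w : t ≫ s = ts)
    (L : EtLam.Sheaf Λ T) (n : ℕ) : Function.Bijective (chgHM t s ts w L n) :=
  bijective_mapHM (thL t s ts w L) (equi_thL t s ts w L) n

theorem viaHM_chg_apply {X Y Z T : Scheme.{u}} (f : X ⟶ Y) (t : Y ⟶ Z) (s : Z ⟶ T)
    (ft : X ⟶ Z) (ts : Y ⟶ T) (fts : X ⟶ T) (w₁ : f ≫ t = ft) (w₂ : t ≫ s = ts)
    (w₃ : f ≫ ts = fts) (w₄ : ft ≫ s = fts) (L : EtLam.Sheaf Λ T) (n : ℕ)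
    (x : HM (EtLam.pullback t (EtLam.pullback s L)) n) :
    viaHM f ts fts w₃ L n (chgHM t s ts w₂ L n x) =
      chgHM ft s fts w₄ L n (viaHM f t ft w₁ (EtLam.pullback s L) n x) :=
  viaHM_th_apply f t s ft ts fts w₁ w₂ w₃ w₄ L n x

section gal

variable {k : Type u} [Field k] {K : Type u} [Field K] [Algebra k K]
variable {X₀ : Scheme.{u}} (a : X₀ ⟶ Spec (CommRingCat.of k)) [Fact FinFr.PullExact.{u}]

/-- The Galois action is natural in the sheaf. -/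
theorem galHM_mapHM (σ : K ≃ₐ[k] K) {L M : EtLam.Sheaf Λ X₀} (φ : L.carrier ⟶ M.carrier)
    (h : Equi L M φ) (n : ℕ) (x : HM (EtLam.pullback (FinFr.extπ K a) L) n) :
    galHM a σ M n (mapHM (pullL (FinFr.extπ K a) φ) (h.pull _) n x) =
      mapHM (pullL (FinFr.extπ K a) φ) (h.pull _) n (galHM a σ L n x) := by
  rw [galHM_eq, galHM_eq]
  exact viaHM_mapHM_apply _ _ _ _ φ n x _ _

/-- Isomorphic sheaves of `Λ`-modules have the same traces. -/
theorem trace_galHM_congr (σ : K ≃ₐ[k] K) {L M : EtLam.Sheaf Λ X₀} (φ : L.carrier ⟶ M.carrier)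
    [IsIso φ] (h : Equi L M φ) (n : ℕ) :
    LinearMap.trace Λ _ (galHM a σ L n) = LinearMap.trace Λ _ (galHM a σ M n) := by
  let E := LinearEquiv.ofBijective (mapHM (pullL (FinFr.extπ K a) φ) (h.pull _) n)
    (bijective_mapHM _ _ n)
  rw [← LinearMap.trace_conj' (galHM a σ L n) E]
  congr 1
  refine LinearMap.ext fun v => ?_
  obtain ⟨w, rfl⟩ := E.surjective v
  rw [LinearEquiv.conj_apply_apply, E.symm_apply_apply]
  exact (galHM_mapHM a σ φ h n w).symm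

end gal

end Groth.Agent.Sga4h.H927.HMod
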