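import Groth.Agent.Sga4h.H927.PtFin
import Groth.Agent.Sga4h.H927.HModBasic
import Groth.Agent.EtpbcB.GeomPointIndep

/-!
# Finiteness of the fibres of a constructible sheaf
-/

set_option autoImplicit false
universe u

open CategoryTheory CategoryTheory.Limits AlgebraicGeometry Opposite

namespace Groth.Agent.Sga4h.H927.FinStalk

open Groth.Agent.Sga4h.H927.HMod Groth.Agent.Etcore.StalkFG Groth.Agent.Etcore.FinPushFG

variable {Λ : Type} [CommRing Λ]

/-- All fibres of `L` are finite modules. -/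
def FinFib {X : Scheme.{u}} (L : EtLam.Sheaf Λ X) : Prop :=
  ∀ (Ω : Type u) [Field Ω] [IsSepClosed Ω] (ξ : Spec (CommRingCat.of Ω) ⟶ X),
    Module.Finite Λ (HM (EtLam.pullback ξ L) 0)

theorem FinFib.pull {X Y : Scheme.{u}} {L : EtLam.Sheaf Λ X} (h : FinFib L) (i : Y ⟶ X) :
    FinFib (EtLam.pullback i L) := fun Ω _ _ ξ => by
  have := h Ω (ξ ≫ i)
  exact Module.Finite.equiv (LinearEquiv.ofBijective (chgHM ξ i (ξ ≫ i) rfl L 0)
    (bijective_chgHM ξ i (ξ ≫ i) rfl L 0)).symm

theorem finFib_of_stalkFG [IsNoetherianRing Λ] {X : Scheme.{u}} {L : EtLam.Sheaf Λ X}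
    (hL : StalkFG L.carrier L.act) : FinFib L := fun _ _ _ ξ =>
  (fgH_iff _ (EtLam.pullback ξ L) 0).1 (PtFin.fgh_pull L hL ξ)

theorem stalkFG_of_cons {X : Scheme.{u}} {L : EtLam.Sheaf Λ X}
    (hL : EtPBC.IsConstructible L.carrier) : StalkFG L.carrier L.act := by
  intro Ω _ _ ξ
  have h := Groth.Agent.EtpbcB.GeomPointIndep.finite_stalk_of_constructible ξ L.carrier hL
  let _ := endModule ((EtCoh.stalk ξ).obj L.carrier) (mapA (EtCoh.stalk ξ) L.act)
  exact (Module.Finite.of_finite : Module.Finite Λ ((EtCoh.stalk ξ).obj L.carrier))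

/-- Sheaves with constructible carrier have finite fibres. -/
theorem finFib_of_cons [IsNoetherianRing Λ] {X : Scheme.{u}} {L : EtLam.Sheaf Λ X}
    (hL : EtPBC.IsConstructible L.carrier) : FinFib L :=
  finFib_of_stalkFG (stalkFG_of_cons hL)

/-- Constructible sheaves of `Λ`-modules have finite fibres. -/
theorem finFib_of_lamCons [IsNoetherianRing Λ] {X : Scheme.{u}} {L : EtLam.Sheaf Λ X}
    (hL : EtLam.IsConstructible L) : FinFib L :=
  finFib_of_stalkFG (Groth.Agent.Etcore.LamChart.stalkFG L hL)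

end Groth.Agent.Sga4h.H927.FinStalk
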