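import Groth.Agent.Sga4h.H927.CycLoc
import Groth.Agent.Sga4h.H927.FinStalk
import Groth.Prelude.Def_FinFrL

/-!
# The local factor of the L-function in terms of the `k`-scheme `Spec κ(x)`
-/

set_option autoImplicit false
universe u

open CategoryTheory CategoryTheory.Limits AlgebraicGeometry Opposite Polynomial

namespace Groth.Agent.Sga4h.H927.CycFactor

open FrobFix PtH0 PtTrace CycGeo CycFin CycLoc FinStalk Groth.Agent.Sga4h.H927.HMod

section conv

variable {Λ : Type} [CommRing Λ] {k : Type u} [Field k] {K : Type u} [Field K] [Algebra k K]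
variable [Fintype k] [Algebra.IsAlgebraic k K] [Fact FinFr.PullExact.{u}]

theorem charRev_frob_eq {X₀ : Scheme.{u}} (a : X₀ ⟶ Spec (CommRingCat.of k))
    (L : EtLam.Sheaf Λ X₀) (n : ℕ) :
    FinFr.charRev (FinFr.frob (K := K) a L n) =
      FinFr.charRev (galHM (K := K) a (FinFr.arith k K).symm L n) := rfl

end conv

variable {Λ : Type} [Field Λ] {k : Type u} [Field k] [Fintype k] {K : Type u} [Field K] [Algebra k K]
  [Algebra.IsAlgebraic k K] [IsAlgClosed K] [Fact FinFr.PullExact.{u}]

/-- Frobenius for `Spec κ` as a `k`-scheme and over itself. -/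
theorem charRev_galHM (κ : Type u) [Field κ] [Fintype κ] [Algebra k κ]
    (K' : Type u) [Field K'] [Algebra κ K'] [Algebra.IsAlgebraic κ K'] [IsAlgClosed K']
    (M : EtLam.Sheaf Λ (Spec (CommRingCat.of κ))) (hM : FinFib M) :
    FinFr.charRev (galHM (K := K) (FinFr.specι k κ) (FinFr.arith k K).symm M 0) =
      expand Λ (Module.finrank k κ)
        (FinFr.charRev (galHM (K := K') (𝟙 (Spec (CommRingCat.of κ))) (FinFr.arith κ K').symm M 0)) := by
  have : Module.Finite k κ := inferInstance
  have : Algebra.IsAlgebraic k κ := Algebra.IsAlgebraic.of_finite k κ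
  let τ : κ →ₐ[k] K := IsAlgClosed.lift
  let _ : Algebra κ K := τ.toRingHom.toAlgebra
  have : IsScalarTower k κ K := IsScalarTower.of_algebraMap_eq fun x => (τ.commutes x).symm
  have : Algebra.IsAlgebraic κ K := Algebra.IsAlgebraic.tower_top (K := k) κ
  rw [charRev_galHM_specι k κ K M (hM K _)]
  congr 1
  obtain ⟨E, hE⟩ := exists_equiv_arith (K := K) (K' := K') M 0
  obtain ⟨e, he⟩ := exists_equiv_autHM (K := K') (FinFr.arith κ K').symm M 0
  exact (CycLin.charRev_conj E _ _ hE).trans (CycLin.charRev_conj e _ _ he).symm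

theorem trace_galHM_eq_zero (κ : Type u) [Field κ] [Fintype κ] [Algebra k κ]
    (M : EtLam.Sheaf Λ (Spec (CommRingCat.of κ))) (hM : FinFib M)
    (hd : 1 < Module.finrank k κ) :
    LinearMap.trace Λ _ (galHM (K := K) (FinFr.specι k κ) (FinFr.arith k K).symm M 0) = 0 := by
  have : Module.Finite k κ := inferInstance
  have : Algebra.IsAlgebraic k κ := Algebra.IsAlgebraic.of_finite k κ
  let τ : κ →ₐ[k] K := IsAlgClosed.lift
  let _ : Algebra κ K := τ.toRingHom.toAlgebra
  have : IsScalarTower k κ K := IsScalarTower.of_algebraMap_eq fun x => (τ.commutes x).symm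
  have : Algebra.IsAlgebraic κ K := Algebra.IsAlgebraic.tower_top (K := k) κ
  exact trace_galHM_specι k κ K M (hM K _) hd

theorem charRev_frob_aux (κ : Type u) [Field κ] [Fintype κ] (ρ : k →+* κ)
    (b' : Spec (CommRingCat.of κ) ⟶ Spec (CommRingCat.of k))
    (h : Spec.map (CommRingCat.ofHom ρ) = b')
    (K' : Type u) [Field K'] [Algebra κ K'] [Algebra.IsAlgebraic κ K'] [IsAlgClosed K']
    (M : EtLam.Sheaf Λ (Spec (CommRingCat.of κ))) (hM : FinFib M) :
    FinFr.charRev (galHM (K := K) b' (FinFr.arith k K).symm M 0) =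
      expand Λ (letI := ρ.toAlgebra; Module.finrank k κ)
        (FinFr.charRev (galHM (K := K') (𝟙 (Spec (CommRingCat.of κ))) (FinFr.arith κ K').symm M 0)) := by
  subst h
  let _ := ρ.toAlgebra
  exact charRev_galHM κ K' M hM

theorem trace_frob_aux (κ : Type u) [Field κ] [Fintype κ] (ρ : k →+* κ)
    (b' : Spec (CommRingCat.of κ) ⟶ Spec (CommRingCat.of k))
    (h : Spec.map (CommRingCat.ofHom ρ) = b')
    (M : EtLam.Sheaf Λ (Spec (CommRingCat.of κ))) (hM : FinFib M)
    (hd : 1 < (letI := ρ.toAlgebra; Module.finrank k κ)) :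
    LinearMap.trace Λ _ (galHM (K := K) b' (FinFr.arith k K).symm M 0) = 0 := by
  subst h
  let _ := ρ.toAlgebra
  exact trace_galHM_eq_zero κ M hM hd

variable {P : Scheme.{u}} (b : P ⟶ Spec (CommRingCat.of k)) (x : P)

omit [Fintype k] [Fact FinFr.PullExact.{u}] in
theorem specMap_resAlgHom :
    Spec.map (CommRingCat.ofHom (FinFr.resAlgHom b x)) = P.fromSpecResidueField x ≫ b :=
  Spec.map_preimage _

variable (K) in
/-- The characteristic polynomial of the Frobenius of the `k`-scheme `Spec κ(x)` is the local factor. -/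
theorem charRev_frob_eq_locFactor [hx : Finite (P.residueField x : Type u)]
    (M : EtLam.Sheaf Λ P) (hM : FinFib M) :
    FinFr.charRev (FinFr.frob (K := K) (P.fromSpecResidueField x ≫ b)
      (EtLam.pullback (P.fromSpecResidueField x) M) 0) = FinFr.locFactor b x M := by
  rw [charRev_frob_eq, FinFr.locFactor, dif_pos hx]
  let _ : Fintype (P.residueField x : Type u) := Fintype.ofFinite _
  exact charRev_frob_aux (P.residueField x : Type u) (FinFr.resAlgHom b x) _ (specMap_resAlgHom b x)
    (AlgebraicClosure (P.residueField x : Type u)) (EtLam.pullback (P.fromSpecResidueField x) M)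
    (hM.pull _)

variable (K) in
/-- The trace of the Frobenius of the `k`-scheme `Spec κ(x)` vanishes at points of degree `> 1`. -/
theorem trace_frob_eq_zero [hx : Finite (P.residueField x : Type u)]
    (M : EtLam.Sheaf Λ P) (hM : FinFib M) (hd : 1 < FinFr.ptDeg b x) :
    LinearMap.trace Λ _ (FinFr.frob (K := K) (P.fromSpecResidueField x ≫ b)
      (EtLam.pullback (P.fromSpecResidueField x) M) 0) = 0 := by
  let _ : Fintype (P.residueField x : Type u) := Fintype.ofFinite _
  exact trace_frob_aux (P.residueField x : Type u) (FinFr.resAlgHom b x) _ (specMap_resAlgHom b x)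
    (EtLam.pullback (P.fromSpecResidueField x) M) (hM.pull _) hd

end Groth.Agent.Sga4h.H927.CycFactor
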