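import Groth.Agent.Sga4h.H927.CycGeo

/-!
# The `K`-points of a finite field and the Frobenius of an extension of finite fields
-/

set_option autoImplicit false
universe u

open CategoryTheory CategoryTheory.Limits AlgebraicGeometry Opposite Polynomial

namespace Groth.Agent.Sga4h.H927.CycFin

open FrobFix

section alg

variable (k : Type u) [Field k] [Fintype k] (K : Type u) [Field K] [Algebra k K]
  [Algebra.IsAlgebraic k K]

theorem arith_pow_apply (i : ℕ) (y : K) : (FinFr.arith k K ^ i) y = y ^ Fintype.card k ^ i := by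
  rw [AlgEquiv.coe_pow]
  exact congrFun (FiniteField.coe_frobeniusAlgEquivOfAlgebraic_iterate k K i) y

theorem symm_pow_symm {k : Type u} [Field k] {K : Type u} [Field K] [Algebra k K] (σ : K ≃ₐ[k] K)
    (i : ℕ) : (σ.symm ^ i).symm = σ ^ i := by
  change ((σ⁻¹) ^ i)⁻¹ = σ ^ i
  rw [inv_pow, inv_inv]

variable (κ : Type u) [Field κ] [Fintype κ] [Algebra k κ] [Algebra κ K] [IsScalarTower k κ K]

omit [IsScalarTower k κ K] in
theorem arith_pow_finrank [Algebra.IsAlgebraic κ K] (y : K) :
    (FinFr.arith k K ^ Module.finrank k κ) y = FinFr.arith κ K y := by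
  rw [arith_pow_apply, ← Module.card_eq_pow_finrank (K := k) (V := κ)]
  rfl

omit [IsScalarTower k κ K] in
theorem symm_pow_finrank [Algebra.IsAlgebraic κ K] (y : K) :
    ((FinFr.arith k K).symm ^ Module.finrank k κ) y = (FinFr.arith κ K).symm y := by
  apply (FinFr.arith κ K).injective
  rw [AlgEquiv.apply_symm_apply, ← arith_pow_finrank k K κ, ← symm_pow_symm,
    AlgEquiv.symm_apply_apply]

/-- The tautological point. -/
noncomputable def pt0 : KPt K (FinFr.specι k κ) :=
  ⟨FinFr.specι κ K, by
    rw [← Spec.map_comp, ← CommRingCat.ofHom_comp]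
    congr 2
    exact (IsScalarTower.algebraMap_eq k κ K).symm⟩

omit [Fintype k] [Algebra.IsAlgebraic k K] [Fintype κ] in
theorem act_pt0 (σ : K ≃ₐ[k] K) : (act (FinFr.specι k κ) σ (pt0 k K κ)).1 =
    Spec.map (CommRingCat.ofHom ((σ : K →+* K).comp (algebraMap κ K))) := by
  change Spec.map _ ≫ Spec.map _ = _
  rw [← Spec.map_comp, ← CommRingCat.ofHom_comp]

theorem bijective_act : Function.Bijective (fun i : Fin (Module.finrank k κ) =>
    act (FinFr.specι k κ) ((FinFr.arith k K).symm ^ i.val).symm (pt0 k K κ)) := by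
  have key : ∀ i : ℕ, (act (FinFr.specι k κ) ((FinFr.arith k K).symm ^ i).symm (pt0 k K κ)).1 =
      Spec.map (CommRingCat.ofHom ((algebraMap κ K).comp
        (FiniteField.frobeniusAlgHom k κ ^ i : κ →ₐ[k] κ).toRingHom)) := by
    intro i
    rw [act_pt0]
    congr 2
    ext x
    change ((FinFr.arith k K).symm ^ i).symm (algebraMap κ K x) =
      algebraMap κ K ((FiniteField.frobeniusAlgHom k κ ^ i : κ →ₐ[k] κ) x)
    rw [symm_pow_symm, arith_pow_apply, AlgHom.coe_pow, FiniteField.coe_frobeniusAlgHom,
      pow_iterate, map_pow]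
  constructor
  · intro i j hij
    have h1 := congrArg Subtype.val hij
    simp only [key] at h1
    have h2 := congrArg CommRingCat.Hom.hom (Spec.map_injective h1)
    apply (FiniteField.bijective_frobeniusAlgHom_pow k κ).1
    ext x
    exact (algebraMap κ K).injective (RingHom.congr_fun h2 x)
  · rintro ⟨ζ, hζ⟩
    let φ : κ →+* K := (Spec.preimage ζ).hom
    have hφ : Spec.map (CommRingCat.ofHom φ) = ζ := Spec.map_preimage ζ
    let ψ : κ →ₐ[k] K :=
      { φ with
        commutes' := fun x => by
          have h3 : CommRingCat.ofHom (algebraMap k κ) ≫ CommRingCat.ofHom φ =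
              CommRingCat.ofHom (algebraMap k K) := by
            apply Spec.map_injective
            rw [Spec.map_comp, hφ]
            exact hζ
          exact congrArg (fun t => t.hom x) h3 }
    obtain ⟨i, hi⟩ := (FiniteField.bijective_frobeniusAlgHom_pow k κ).2 (ψ.restrictNormal κ)
    refine ⟨i, Subtype.ext ?_⟩
    refine (key i.val).trans (Eq.trans ?_ hφ)
    congr 2
    ext x
    have h4 : (FiniteField.frobeniusAlgHom k κ ^ i.val : κ →ₐ[k] κ) = ψ.restrictNormal κ := hi
    change algebraMap κ K ((FiniteField.frobeniusAlgHom k κ ^ i.val : κ →ₐ[k] κ) x) = φ x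
    rw [h4]
    exact ψ.restrictNormal_commutes κ x

theorem act_pt0_eq [Algebra.IsAlgebraic κ K] :
    act (FinFr.specι k κ) ((FinFr.arith k K).symm ^ Module.finrank k κ) (pt0 k K κ) = pt0 k K κ := by
  apply Subtype.ext
  rw [act_pt0]
  refine Eq.trans ?_ (FinFr.specMap_algEquiv_comp_specι (FinFr.arith κ K).symm)
  rw [← Spec.map_comp, ← CommRingCat.ofHom_comp]
  congr 2
  ext x
  exact symm_pow_finrank k K κ _

end alg

end Groth.Agent.Sga4h.H927.CycFin
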