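import Groth.Agent.Sga4h.H927.CycMat
import Groth.Agent.Sga4h.H925.DetInv
import Mathlib.LinearAlgebra.StdBasis

/-!
# The reversed characteristic polynomial of an endomorphism permuting summands cyclically
-/

set_option autoImplicit false

open Polynomial

namespace Groth.Agent.Sga4h.H927.CycLin

open CycMat Groth.Agent.Sga4h.H925.DetInv

universe v w

/-- `charRev` is invariant under conjugation. -/
theorem charRev_conj {Λ : Type} [CommRing Λ] {V : Type v} {W : Type w} [AddCommGroup V] [Module Λ V]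
    [AddCommGroup W] [Module Λ W] (e : V ≃ₗ[Λ] W) (φ : V →ₗ[Λ] V) (ψ : W →ₗ[Λ] W)
    (h : ∀ x, e (φ x) = ψ (e x)) : FinFr.charRev φ = FinFr.charRev ψ := by
  rw [FinFr.charRev, FinFr.charRev]
  rw [← LinearMap.det_conj (LinearMap.id - (X : Λ[X]) • φ.baseChange Λ[X]) (e.baseChange Λ Λ[X] V W)]
  congr 1
  refine LinearMap.ext fun y => ?_
  obtain ⟨x, rfl⟩ := (e.baseChange Λ Λ[X] V W).surjective y
  have h2 : ∀ x, (e.baseChange Λ Λ[X] V W) (φ.baseChange Λ[X] x) =
      ψ.baseChange Λ[X] ((e.baseChange Λ Λ[X] V W) x) := by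
    intro x
    induction x using TensorProduct.induction_on with
    | zero => simp
    | tmul a v =>
      rw [LinearMap.baseChange_tmul, LinearEquiv.baseChange_tmul, LinearEquiv.baseChange_tmul,
        LinearMap.baseChange_tmul, h]
    | add x y hx hy => rw [map_add, map_add, hx, hy, map_add, map_add]
  simp only [LinearMap.comp_apply, LinearMap.sub_apply, LinearMap.smul_apply, LinearMap.id_apply,
    LinearEquiv.coe_coe, LinearEquiv.symm_apply_apply, map_sub, map_smul, h2]

variable {Λ : Type} [CommRing Λ]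

/-- The endomorphism `w ↦ (w₁, …, w_m, g w₀)`. -/
def cycEnd {W : Type v} [AddCommGroup W] [Module Λ W] (m : ℕ) (g : W →ₗ[Λ] W) :
    (Fin (m + 1) → W) →ₗ[Λ] (Fin (m + 1) → W) where
  toFun w i := if h : i.val < m then w ⟨i.val + 1, Nat.succ_lt_succ h⟩ else g (w 0)
  map_add' w w' := by
    funext i
    by_cases h : i.val < m
    · simp [h]
    · simp [h]
  map_smul' r w := by
    funext i
    by_cases h : i.val < m
    · simp [h]
    · simp [h]

theorem charRev_cycEnd {W : Type v} [AddCommGroup W] [Module Λ W] (m : ℕ) (g : W →ₗ[Λ] W)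
    {r : ℕ} (b : Module.Basis (Fin r) Λ W) :
    FinFr.charRev (cycEnd m g) = expand Λ (m + 1) (FinFr.charRev g) := by
  classical
  let B : Module.Basis (Fin (m + 1) × Fin r) Λ (Fin (m + 1) → W) :=
    (Pi.basis fun _ => b).reindex (Equiv.sigmaEquivProd _ _)
  rw [charRev_eq B, charRev_eq b, ← charpolyRev_cycB]
  congr 1
  refine Matrix.ext fun p q => ?_
  obtain ⟨i, a⟩ := p
  obtain ⟨j, c⟩ := q
  have hB : ∀ (w : Fin (m + 1) → W) (i : Fin (m + 1)) (a : Fin r), B.repr w (i, a) = b.repr (w i) a := by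
    intro w i a
    rw [Module.Basis.repr_reindex_apply]
    exact Pi.basis_repr _ _ _
  have hb : B (j, c) = Pi.single j (b c) := by
    rw [Module.Basis.reindex_apply]
    exact Pi.basis_apply _ _
  rw [LinearMap.toMatrix_apply, hB, hb]
  by_cases hi : i.val < m
  · have h1 : cycEnd m g (Pi.single j (b c)) i =
        (Pi.single j (b c) : Fin (m + 1) → W) ⟨i.val + 1, Nat.succ_lt_succ hi⟩ := dif_pos hi
    rw [h1]
    by_cases hj : j.val = i.val + 1
    · have hj' : (⟨i.val + 1, Nat.succ_lt_succ hi⟩ : Fin (m + 1)) = j := Fin.ext hj.symm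
      rw [hj', Pi.single_eq_same]
      simp [cycB, hi, hj, Matrix.one_apply, Finsupp.single_apply, eq_comm]
    · have hj' : (⟨i.val + 1, Nat.succ_lt_succ hi⟩ : Fin (m + 1)) ≠ j := fun h => hj (by rw [← h])
      rw [Pi.single_eq_of_ne hj']
      simp [cycB, hi, hj]
  · have h1 : cycEnd m g (Pi.single j (b c)) i =
        g ((Pi.single j (b c) : Fin (m + 1) → W) 0) := dif_neg hi
    rw [h1]
    by_cases hj : j.val = 0
    · have hj' : j = 0 := Fin.ext hj
      subst hj'
      rw [Pi.single_eq_same]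
      simp [cycB, hi, LinearMap.toMatrix_apply]
    · have hj' : (0 : Fin (m + 1)) ≠ j := fun h => hj (by rw [← h]; rfl)
      have hj2 : ¬ (j = 0) := fun h => hj' h.symm
      rw [Pi.single_eq_of_ne hj']
      simp [cycB, hi, hj2]

/-- `charRev` of an endomorphism permuting `d` factors cyclically. -/
theorem charRev_of_cyclic {M : Type v} {W : Type w} [AddCommGroup M] [Module Λ M] [AddCommGroup W] [Module Λ W]
    [Module.Finite Λ W] [Module.Free Λ W] {d : ℕ} (hd : 0 < d) (F : M →ₗ[Λ] M) (p : M →ₗ[Λ] W)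
    (g : W →ₗ[Λ] W) (hg : ∀ v, p ((F ^ d) v) = g (p v))
    (hb : Function.Bijective (fun (v : M) (i : Fin d) => p ((F ^ i.val) v))) :
    FinFr.charRev F = expand Λ d (FinFr.charRev g) := by
  obtain ⟨m, rfl⟩ := Nat.exists_eq_add_of_lt hd
  rw [zero_add] at hg hb ⊢
  nontriviality Λ
  rw [← charRev_cycEnd m g (Module.finBasis Λ W)]
  let e : M ≃ₗ[Λ] (Fin (m + 1) → W) :=
    LinearEquiv.ofBijective (LinearMap.pi fun i : Fin (m + 1) => p ∘ₗ (F ^ i.val)) hb
  refine charRev_conj e F (cycEnd m g) fun x => ?_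
  funext i
  have h1 : ∀ (y : M) (i : Fin (m + 1)), e y i = p ((F ^ i.val) y) := fun y i => rfl
  rw [h1]
  by_cases hi : i.val < m
  · have h2 : cycEnd m g (e x) i = e x ⟨i.val + 1, Nat.succ_lt_succ hi⟩ := dif_pos hi
    rw [h2, h1]
    change _ = p ((F ^ (i.val + 1)) x)
    rw [pow_succ]
    rfl
  · have h2 : cycEnd m g (e x) i = g (e x 0) := dif_neg hi
    have him : i.val = m := by omega
    rw [h2, h1, ← Module.End.mul_apply, ← pow_succ, him, hg]
    rfl

theorem trace_eq_neg_coeff {M : Type v} [AddCommGroup M] [Module Λ M] [Module.Finite Λ M]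
    [Module.Free Λ M] (F : M →ₗ[Λ] M) : LinearMap.trace Λ M F = - (FinFr.charRev F).coeff 1 := by
  classical
  nontriviality Λ
  rw [charRev_eq (Module.finBasis Λ M), Matrix.coeff_charpolyRev_eq_neg_trace, neg_neg,
    LinearMap.trace_eq_matrix_trace Λ (Module.finBasis Λ M)]

/-- The trace of an endomorphism permuting `d > 1` factors cyclically vanishes. -/
theorem trace_of_cyclic {M : Type v} {W : Type w} [AddCommGroup M] [Module Λ M]
    [AddCommGroup W] [Module Λ W] [Module.Finite Λ W] [Module.Free Λ W] {d : ℕ} (hd : 1 < d)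
    (F : M →ₗ[Λ] M) (p : M →ₗ[Λ] W) (g : W →ₗ[Λ] W) (hg : ∀ v, p ((F ^ d) v) = g (p v))
    (hb : Function.Bijective (fun (v : M) (i : Fin d) => p ((F ^ i.val) v))) :
    LinearMap.trace Λ M F = 0 := by
  let e : M ≃ₗ[Λ] (Fin d → W) :=
    LinearEquiv.ofBijective (LinearMap.pi fun i : Fin d => p ∘ₗ (F ^ i.val)) hb
  have : Module.Finite Λ M := Module.Finite.equiv e.symm
  have : Module.Free Λ M := Module.Free.of_equiv e.symm
  rw [trace_eq_neg_coeff, charRev_of_cyclic (by omega) F p g hg hb, coeff_expand (by omega),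
    if_neg (by rw [Nat.dvd_one]; omega), neg_zero]

end Groth.Agent.Sga4h.H927.CycLin
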