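import Groth.Agent.Sga4h.H927.PtTrace
import Groth.Agent.Sga4h.H927.CycLin

/-!
# Frobenius permuting the `K`-points of a finite scheme cyclically
-/

set_option autoImplicit false
universe u

open CategoryTheory CategoryTheory.Limits AlgebraicGeometry Opposite Polynomial

namespace Groth.Agent.Sga4h.H927.CycGeo

open FrobFix PtH0 PtTrace Groth.Agent.Sga4h.H927.HMod

variable {Λ : Type}

section gal

variable [CommRing Λ] {k : Type u} [Field k] {K : Type u} [Field K] [Algebra k K]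
variable {X₀ : Scheme.{u}} (a : X₀ ⟶ Spec (CommRingCat.of k))

theorem specMap_mul (σ τ : K ≃ₐ[k] K) :
    Spec.map (CommRingCat.ofHom ((σ * τ : K ≃ₐ[k] K) : K →+* K)) =
      Spec.map (CommRingCat.ofHom (σ : K →+* K)) ≫ Spec.map (CommRingCat.ofHom (τ : K →+* K)) := by
  rw [← Spec.map_comp]
  rfl

theorem galAct_mul (σ τ : K ≃ₐ[k] K) :
    FinFr.galAct a σ ≫ FinFr.galAct a τ = FinFr.galAct a (σ * τ) := by
  apply pullback.hom_ext
  · rw [Category.assoc]
    change FinFr.galAct a σ ≫ FinFr.galAct a τ ≫ FinFr.extπ K a = FinFr.galAct a (σ * τ) ≫ FinFr.extπ K a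
    rw [FinFr.galAct_fst, FinFr.galAct_fst, FinFr.galAct_fst]
  · rw [Category.assoc]
    change FinFr.galAct a σ ≫ FinFr.galAct a τ ≫ FinFr.extStr K a =
      FinFr.galAct a (σ * τ) ≫ FinFr.extStr K a
    rw [FinFr.galAct_snd, FinFr.galAct_snd, ← Category.assoc, FinFr.galAct_snd, Category.assoc,
      specMap_mul]

variable [Fact FinFr.PullExact.{u}]

theorem galHM_mul (σ τ : K ≃ₐ[k] K) (L : EtLam.Sheaf Λ X₀) (n : ℕ) :
    galHM a (σ * τ) L n = galHM a σ L n * galHM a τ L n := by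
  rw [galHM_eq, galHM_eq, galHM_eq]
  exact (viaHM_comp (FinFr.galAct a σ) (FinFr.galAct a τ) (FinFr.galAct a (σ * τ)) _ _ _
    (galAct_mul a σ τ) _ _ _ L n).symm

theorem galHM_one (L : EtLam.Sheaf Λ X₀) (n : ℕ) : galHM a (1 : K ≃ₐ[k] K) L n = 1 := by
  have h : FinFr.galAct a (1 : K ≃ₐ[k] K) = 𝟙 _ := by
    apply pullback.hom_ext
    · exact (FinFr.galAct_fst a _).trans (Category.id_comp _).symm
    · refine (FinFr.galAct_snd a _).trans ?_
      have : Spec.map (CommRingCat.ofHom ((1 : K ≃ₐ[k] K) : K →+* K)) = 𝟙 _ := Spec.map_id _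
      rw [this, Category.comp_id, Category.id_comp]
  rw [galHM_eq, viaHM_congr h]
  exact LinearMap.ext fun v => viaHM_id_apply _ _ L n v

theorem galHM_pow (σ : K ≃ₐ[k] K) (L : EtLam.Sheaf Λ X₀) (n i : ℕ) :
    galHM a (σ ^ i) L n = galHM a σ L n ^ i := by
  induction i with
  | zero => rw [pow_zero, pow_zero, galHM_one]
  | succ i ih => rw [pow_succ, pow_succ, galHM_mul, ih]

theorem bijective_ptGal (σ : K ≃ₐ[k] K) (L : EtLam.Sheaf Λ X₀) (n : ℕ)
    (η ξ : KPt K a) (h : act a σ η = ξ) : Function.Bijective (ptGal a σ L n η ξ h) := by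
  have : IsIso (Spec.map (CommRingCat.ofHom (σ : K →+* K))) :=
    ⟨Spec.map (CommRingCat.ofHom (σ.symm : K →+* K)), specMap_symm σ, specMap_symm σ.symm⟩
  exact bijective_viaHM _ _ _ _ L n

theorem toPt_galHM_fix (σ : K ≃ₐ[k] K) (L : EtLam.Sheaf Λ X₀) (n : ℕ)
    (ξ : KPt K a) (h : act a σ ξ = ξ) (v : HM (EtLam.pullback (FinFr.extπ K a) L) n) :
    toPt a L n ξ (galHM a σ L n v) = ptGal a σ L n ξ ξ h (toPt a L n ξ v) := by
  rw [toPt_galHM]
  have h2 : ∀ (η : KPt K a) (h' : act a σ η = ξ) (_ : η = ξ),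
      ptGal a σ L n η ξ h' (toPt a L n η v) = ptGal a σ L n ξ ξ h (toPt a L n ξ v) := by
    rintro η h' rfl
    rfl
  exact h2 _ _ ((act_symm_eq_iff a σ ξ).2 h)

theorem bijective_cyc [IsAlgClosed K] [IsFinite a] (σ : K ≃ₐ[k] K) (L : EtLam.Sheaf Λ X₀) {d : ℕ}
    (ξ : KPt K a) (he : Function.Bijective (fun i : Fin d => act a (σ ^ i.val).symm ξ)) :
    Function.Bijective (fun (v : HM (EtLam.pullback (FinFr.extπ K a) L) 0) (i : Fin d) =>
      toPt a L 0 ξ ((galHM a σ L 0 ^ i.val) v)) := by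
  have h1 : ∀ (v : HM (EtLam.pullback (FinFr.extπ K a) L) 0) (i : Fin d),
      toPt a L 0 ξ ((galHM a σ L 0 ^ i.val) v) =
        ptGal a (σ ^ i.val) L 0 (act a (σ ^ i.val).symm ξ) ξ (act_act_symm a _ ξ)
          (toPt a L 0 (act a (σ ^ i.val).symm ξ) v) := by
    intro v i
    rw [← galHM_pow, toPt_galHM]
  constructor
  · intro v w hvw
    apply (bijective_toPt a L).1
    funext ζ
    obtain ⟨i, rfl⟩ := he.2 ζ
    have h2 := congrFun hvw i
    simp only [h1] at h2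
    exact (bijective_ptGal a _ L 0 _ _ _).1 h2
  · intro w
    choose u hu using fun i : Fin d =>
      (bijective_ptGal a (σ ^ i.val) L 0 (act a (σ ^ i.val).symm ξ) ξ (act_act_symm a _ ξ)).2 (w i)
    let e := Equiv.ofBijective _ he
    obtain ⟨v, hv⟩ := (bijective_toPt a L).2
      (Equiv.piCongrLeft (fun ζ : KPt K a => HM (EtLam.pullback ζ.1 L) 0) e u)
    refine ⟨v, ?_⟩
    funext i
    change toPt a L 0 ξ ((galHM a σ L 0 ^ i.val) v) = _
    rw [h1, ← hu i]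
    congr 1
    have h3 := congrFun hv (e i)
    rw [Equiv.piCongrLeft_apply_apply] at h3
    exact h3

end gal

section charRev

variable [Field Λ] {k : Type u} [Field k] {K : Type u} [Field K] [Algebra k K] [IsAlgClosed K]
variable {X₀ : Scheme.{u}} (a : X₀ ⟶ Spec (CommRingCat.of k)) [IsFinite a]
  [Fact FinFr.PullExact.{u}]

theorem charRev_galHM_cyc (σ : K ≃ₐ[k] K) (L : EtLam.Sheaf Λ X₀) {d : ℕ} (hd : 0 < d)
    (ξ : KPt K a) (h : act a (σ ^ d) ξ = ξ)
    (he : Function.Bijective (fun i : Fin d => act a (σ ^ i.val).symm ξ))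
    [Module.Finite Λ (HM (EtLam.pullback ξ.1 L) 0)] :
    FinFr.charRev (galHM a σ L 0) =
      expand Λ d (FinFr.charRev (ptGal a (σ ^ d) L 0 ξ ξ h)) :=
  CycLin.charRev_of_cyclic hd (galHM a σ L 0) (toPt a L 0 ξ) (ptGal a (σ ^ d) L 0 ξ ξ h)
    (fun v => by rw [← galHM_pow]; exact toPt_galHM_fix a _ L 0 ξ h v) (bijective_cyc a σ L ξ he)

theorem trace_galHM_cyc (σ : K ≃ₐ[k] K) (L : EtLam.Sheaf Λ X₀) {d : ℕ} (hd : 1 < d)
    (ξ : KPt K a) (h : act a (σ ^ d) ξ = ξ)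
    (he : Function.Bijective (fun i : Fin d => act a (σ ^ i.val).symm ξ))
    [Module.Finite Λ (HM (EtLam.pullback ξ.1 L) 0)] :
    LinearMap.trace Λ _ (galHM a σ L 0) = 0 :=
  CycLin.trace_of_cyclic hd (galHM a σ L 0) (toPt a L 0 ξ) (ptGal a (σ ^ d) L 0 ξ ξ h)
    (fun v => by rw [← galHM_pow]; exact toPt_galHM_fix a _ L 0 ξ h v) (bijective_cyc a σ L ξ he)

end charRev

end Groth.Agent.Sga4h.H927.CycGeo
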