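import Groth.Agent.Sga4h.H927.CycFin

/-!
# The Frobenius of a finite extension of finite fields, as a `k`-scheme and over itself
-/

set_option autoImplicit false
universe u

open CategoryTheory CategoryTheory.Limits AlgebraicGeometry Opposite Polynomial

namespace Groth.Agent.Sga4h.H927.CycLoc

open FrobFix PtH0 PtTrace CycGeo CycFin Groth.Agent.Sga4h.H927.HMod

variable {Λ : Type}

section self

variable [CommRing Λ] {κ : Type u} [Field κ] {K : Type u} [Field K] [Algebra κ K]

/-- The action of an automorphism on the cohomology of `Spec K`, coefficients from `Spec κ`. -/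
noncomputable def autHM (σ : K ≃ₐ[κ] K) (M : EtLam.Sheaf Λ (Spec (CommRingCat.of κ))) (n : ℕ) :
    HM (EtLam.pullback (FinFr.specι κ K) M) n →ₗ[Λ] HM (EtLam.pullback (FinFr.specι κ K) M) n :=
  viaHM (Spec.map (CommRingCat.ofHom (σ : K →+* K))) (FinFr.specι κ K) (FinFr.specι κ K)
    (FinFr.specMap_algEquiv_comp_specι σ) M n

theorem bijective_toPt_taut (M : EtLam.Sheaf Λ (Spec (CommRingCat.of κ))) (n : ℕ) :
    Function.Bijective (toPt (𝟙 _) M n (tautPt (k := κ) (K := K))) :=
  bijective_viaHM _ _ _ _ M n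

/-- The Galois action for the scheme `Spec κ` over itself. -/
theorem exists_equiv_autHM [Fact FinFr.PullExact.{u}] (σ : K ≃ₐ[κ] K)
    (M : EtLam.Sheaf Λ (Spec (CommRingCat.of κ))) (n : ℕ) :
    ∃ e : HM (EtLam.pullback (FinFr.extπ K (𝟙 (Spec (CommRingCat.of κ)))) M) n ≃ₗ[Λ]
        HM (EtLam.pullback (FinFr.specι κ K) M) n,
      ∀ v, e (galHM (𝟙 _) σ M n v) = autHM σ M n (e v) :=
  ⟨LinearEquiv.ofBijective _ (bijective_toPt_taut M n),
    fun v => toPt_galHM_fix (𝟙 _) σ M n tautPt (act_tautPt σ) v⟩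

variable {K' : Type u} [Field K'] [Algebra κ K']

/-- Independence of the algebraic closure. -/
theorem exists_equiv_change (e : K ≃ₐ[κ] K') (σ : K ≃ₐ[κ] K) (σ' : K' ≃ₐ[κ] K')
    (h : ∀ x, e (σ x) = σ' (e x)) (M : EtLam.Sheaf Λ (Spec (CommRingCat.of κ))) (n : ℕ) :
    ∃ E : HM (EtLam.pullback (FinFr.specι κ K) M) n ≃ₗ[Λ]
        HM (EtLam.pullback (FinFr.specι κ K') M) n,
      ∀ v, E (autHM σ M n v) = autHM σ' M n (E v) := by
  let f : Spec (CommRingCat.of K') ⟶ Spec (CommRingCat.of K) :=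
    Spec.map (CommRingCat.ofHom (e : K →+* K'))
  have w : f ≫ FinFr.specι κ K = FinFr.specι κ K' := by
    rw [← Spec.map_comp, ← CommRingCat.ofHom_comp]
    congr 2
    ext x
    exact e.commutes x
  have : IsIso f := by
    refine ⟨Spec.map (CommRingCat.ofHom (e.symm : K' →+* K)), ?_, ?_⟩
    · rw [← Spec.map_comp, ← CommRingCat.ofHom_comp, ← Spec.map_id]
      congr 1
      ext x
      exact e.apply_symm_apply x
    · rw [← Spec.map_comp, ← CommRingCat.ofHom_comp, ← Spec.map_id]
      congr 1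
      ext x
      exact e.symm_apply_apply x
  have h2 : f ≫ Spec.map (CommRingCat.ofHom (σ : K →+* K)) =
      Spec.map (CommRingCat.ofHom (σ' : K' →+* K')) ≫ f := by
    rw [← Spec.map_comp, ← Spec.map_comp, ← CommRingCat.ofHom_comp, ← CommRingCat.ofHom_comp]
    congr 2
    ext x
    exact h x
  refine ⟨LinearEquiv.ofBijective (viaHM f (FinFr.specι κ K) (FinFr.specι κ K') w M n)
    (bijective_viaHM _ _ _ _ M n), fun v => ?_⟩
  refine (viaHM_comp_apply f (Spec.map (CommRingCat.ofHom (σ : K →+* K))) (f ≫ _)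
    (FinFr.specι κ K') (FinFr.specι κ K) (FinFr.specι κ K) rfl w
    (FinFr.specMap_algEquiv_comp_specι σ) (by rw [Category.assoc, FinFr.specMap_algEquiv_comp_specι, w])
    M n v).trans ?_
  exact (viaHM_comp_apply (Spec.map (CommRingCat.ofHom (σ' : K' →+* K'))) f (f ≫ _)
    (FinFr.specι κ K') (FinFr.specι κ K') (FinFr.specι κ K) h2.symm
    (FinFr.specMap_algEquiv_comp_specι σ') w
    (by rw [Category.assoc, FinFr.specMap_algEquiv_comp_specι, w]) M n v).symm

/-- The geometric Frobenius on the stalk, for two algebraic closures. -/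
theorem exists_equiv_arith [Fintype κ] [IsAlgClosed K] [Algebra.IsAlgebraic κ K] [IsAlgClosed K']
    [Algebra.IsAlgebraic κ K'] (M : EtLam.Sheaf Λ (Spec (CommRingCat.of κ))) (n : ℕ) :
    ∃ E : HM (EtLam.pullback (FinFr.specι κ K) M) n ≃ₗ[Λ]
        HM (EtLam.pullback (FinFr.specι κ K') M) n,
      ∀ v, E (autHM (FinFr.arith κ K).symm M n v) = autHM (FinFr.arith κ K').symm M n (E v) := by
  have : IsAlgClosure κ K := ⟨inferInstance, inferInstance⟩
  have : IsAlgClosure κ K' := ⟨inferInstance, inferInstance⟩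
  let e : K ≃ₐ[κ] K' := IsAlgClosure.equiv κ K K'
  refine exists_equiv_change e _ _ (fun x => ?_) M n
  apply (FinFr.arith κ K').injective
  rw [AlgEquiv.apply_symm_apply]
  have h1 : ∀ y, FinFr.arith κ K' (e y) = e (FinFr.arith κ K y) := fun y => (map_pow e y _).symm
  rw [h1, AlgEquiv.apply_symm_apply]

end self

section ext

variable [Field Λ] (k : Type u) [Field k] [Fintype k] (κ : Type u) [Field κ] [Fintype κ] [Algebra k κ]
variable (K : Type u) [Field K] [Algebra k K] [Algebra.IsAlgebraic k K] [IsAlgClosed K]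
  [Algebra κ K] [IsScalarTower k κ K] [Algebra.IsAlgebraic κ K] [Fact FinFr.PullExact.{u}]

instance isFinite_specι : IsFinite (FinFr.specι k κ) := by
  rw [IsFinite.SpecMap_iff]
  have : Module.Finite k κ := inferInstance
  exact RingHom.finite_algebraMap.2 this

omit [IsAlgClosed K] [Fact FinFr.PullExact.{u}] [IsScalarTower k κ K] in
theorem specMap_symm_pow :
    Spec.map (CommRingCat.ofHom
      (((FinFr.arith k K).symm ^ Module.finrank k κ : K ≃ₐ[k] K) : K →+* K)) =
    Spec.map (CommRingCat.ofHom ((FinFr.arith κ K).symm : K →+* K)) := by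
  congr 2
  ext x
  exact symm_pow_finrank k K κ x

omit [IsAlgClosed K] [Fact FinFr.PullExact.{u}] in
theorem ptGal_eq_autHM (M : EtLam.Sheaf Λ (Spec (CommRingCat.of κ))) :
    ptGal (FinFr.specι k κ) ((FinFr.arith k K).symm ^ Module.finrank k κ) M 0 (pt0 k K κ)
      (pt0 k K κ) (act_pt0_eq k K κ) = autHM (FinFr.arith κ K).symm M 0 :=
  viaHM_congr (specMap_symm_pow k κ K) (FinFr.specι κ K) (FinFr.specι κ K) _ M 0

/-- Frobenius on `H⁰((Spec κ)_K, M)` for `Spec κ` as a `k`-scheme. -/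
theorem charRev_galHM_specι (M : EtLam.Sheaf Λ (Spec (CommRingCat.of κ)))
    (hfin : Module.Finite Λ (HM (EtLam.pullback (FinFr.specι κ K) M) 0)) :
    FinFr.charRev (galHM (FinFr.specι k κ) (FinFr.arith k K).symm M 0) =
      expand Λ (Module.finrank k κ) (FinFr.charRev (autHM (FinFr.arith κ K).symm M 0)) := by
  have hfin' : Module.Finite Λ (HM (EtLam.pullback (pt0 k K κ).1 M) 0) := hfin
  refine (charRev_galHM_cyc (FinFr.specι k κ) (FinFr.arith k K).symm M
    (Module.finrank_pos (R := k) (M := κ)) (pt0 k K κ) (act_pt0_eq k K κ)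
    (bijective_act k K κ)).trans ?_
  exact congrArg (fun t => expand Λ _ (FinFr.charRev t)) (ptGal_eq_autHM k κ K M)

theorem trace_galHM_specι (M : EtLam.Sheaf Λ (Spec (CommRingCat.of κ)))
    (hfin : Module.Finite Λ (HM (EtLam.pullback (FinFr.specι κ K) M) 0))
    (hd : 1 < Module.finrank k κ) :
    LinearMap.trace Λ _ (galHM (FinFr.specι k κ) (FinFr.arith k K).symm M 0) = 0 := by
  have hfin' : Module.Finite Λ (HM (EtLam.pullback (pt0 k K κ).1 M) 0) := hfin
  exact trace_galHM_cyc (FinFr.specι k κ) (FinFr.arith k K).symm M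
    hd (pt0 k K κ) (act_pt0_eq k K κ) (bijective_act k K κ)

end ext

end Groth.Agent.Sga4h.H927.CycLoc
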