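import Mathlib.RingTheory.Norm.Transitivity
import Mathlib.LinearAlgebra.Matrix.Charpoly.Coeff
import Mathlib.Algebra.Polynomial.Expand

/-!
# The determinant of a cyclic block matrix
-/

set_option autoImplicit false

open Matrix Polynomial

namespace Groth.Agent.Sga4h.H927.CycMat

section comm

variable {S : Type*} [CommRing S] (m : ℕ)

/-- The companion type matrix of `(w ↦ (w₁, …, w_m, y w₀))`. -/
def cyc (y : S) : Matrix (Fin (m + 1)) (Fin (m + 1)) S :=
  Matrix.of fun i j => if i.val < m then (if j.val = i.val + 1 then 1 else 0) else (if j.val = 0 then y else 0)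

/-- The unipotent upper triangular matrix with entries `x ^ (j - i)`. -/
def upp (x : S) : Matrix (Fin (m + 1)) (Fin (m + 1)) S :=
  Matrix.of fun i j => if i.val ≤ j.val then x ^ (j.val - i.val) else 0

theorem det_upp (x : S) : (upp m x).det = 1 := by
  rw [Matrix.det_of_isUpperTriangular]
  · refine Finset.prod_eq_one fun i _ => ?_
    simp [upp]
  · intro i j hij
    have : ¬ (i.val ≤ j.val) := not_le.2 hij
    exact if_neg this

/-- The lower triangular matrix. -/
def low (x y : S) : Matrix (Fin (m + 1)) (Fin (m + 1)) S :=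
  Matrix.of fun i j => (if i = j then 1 else 0) - if i.val < m then 0 else x ^ (j.val + 1) * y

theorem det_low (x y : S) : (low m x y).det = 1 - x ^ (m + 1) * y := by
  rw [Matrix.det_of_isLowerTriangular]
  · rw [Fin.prod_univ_castSucc]
    rw [Finset.prod_eq_one]
    · simp [low]
    · intro i _
      simp [low]
  · intro i j hij
    have h1 : i < j := hij
    have h2 : i.val < m := lt_of_lt_of_le h1 (Nat.lt_succ_iff.1 j.2)
    simp [low, h2, h1.ne]

theorem mul_upp (x y : S) : (1 - x • cyc m y) * upp m x = low m x y := by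
  ext i j
  rw [sub_mul, one_mul, Matrix.smul_mul, Matrix.sub_apply, Matrix.smul_apply, Matrix.mul_apply]
  by_cases hi : i.val < m
  · have h1 : ∀ l : Fin (m + 1), cyc m y i l * upp m x l j =
        if l = ⟨i.val + 1, Nat.succ_lt_succ hi⟩ then upp m x l j else 0 := by
      intro l
      by_cases hl : l = ⟨i.val + 1, Nat.succ_lt_succ hi⟩
      · subst hl
        simp [cyc, hi]
      · have hl' : l.val ≠ i.val + 1 := fun h => hl (Fin.ext h)
        simp [cyc, hi, hl, hl']
    rw [Finset.sum_congr rfl fun l _ => h1 l, Finset.sum_ite_eq' Finset.univ]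
    simp only [Finset.mem_univ, if_true, low, upp, Matrix.of_apply, hi]
    by_cases h2 : i.val ≤ j.val
    · by_cases h3 : i.val = j.val
      · have h4 : i = j := Fin.ext h3
        subst h4
        simp
      · have h4 : i ≠ j := fun h => h3 (congrArg _ h)
        have h5 : i.val + 1 ≤ j.val := by omega
        rw [if_pos h2, if_pos h5, if_neg h4, smul_eq_mul, ← pow_succ',
          show j.val - (i.val + 1) + 1 = j.val - i.val by omega]
        simp
    · have h4 : i ≠ j := fun h => h2 (by rw [h])
      have h5 : ¬ (i.val + 1 ≤ j.val) := by omega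
      rw [if_neg h2, if_neg h5, if_neg h4]
      simp
  · have him : i.val = m := by omega
    have h1 : ∀ l : Fin (m + 1), cyc m y i l * upp m x l j =
        if l = 0 then y * upp m x l j else 0 := by
      intro l
      by_cases hl : l = 0
      · subst hl
        simp [cyc, hi]
      · simp [cyc, hi, hl]
    rw [Finset.sum_congr rfl fun l _ => h1 l, Finset.sum_ite_eq' Finset.univ]
    simp only [Finset.mem_univ, if_true, low, upp, Matrix.of_apply, hi, if_false]
    have h0 : (0 : Fin (m + 1)).val ≤ j.val := Nat.zero_le _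
    rw [if_pos h0]
    have h6 : (if i.val ≤ j.val then x ^ (j.val - i.val) else 0 : S) = if i = j then 1 else 0 := by
      by_cases h3 : i = j
      · subst h3
        simp
      · have h4 : i.val ≠ j.val := fun h => h3 (Fin.ext h)
        have h5 : ¬ (i.val ≤ j.val) := by omega
        rw [if_neg h5, if_neg h3]
    rw [h6, smul_eq_mul, Fin.val_zero, Nat.sub_zero, pow_succ]
    ring

theorem det_one_sub_cyc (x y : S) : (1 - x • cyc m y).det = 1 - x ^ (m + 1) * y := by
  have h := congrArg Matrix.det (mul_upp m x y)
  rwa [det_mul, det_upp, mul_one, det_low] at h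

end comm

section block

variable {R : Type*} [CommRing R] {n : Type*} [Fintype n] [DecidableEq n] (m : ℕ)

/-- The block matrix of `w ↦ (w₁, …, w_m, G w₀)`. -/
def cycB (G : Matrix n n R) : Matrix (Fin (m + 1) × n) (Fin (m + 1) × n) R :=
  Matrix.of fun p q => if p.1.val < m then (if q.1.val = p.1.val + 1 then (1 : Matrix n n R) p.2 q.2 else 0)
    else (if q.1.val = 0 then G p.2 q.2 else 0)

theorem charpolyRev_cycB (G : Matrix n n R) :
    (cycB m G).charpolyRev = expand R (m + 1) G.charpolyRev := by
  let f : R[X][X] →+* Matrix n n R[X] := (Polynomial.aeval (G.map C)).toRingHom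
  have fC : ∀ r : R[X], f (C r) = r • (1 : Matrix n n R[X]) := fun r => by
    change Polynomial.aeval (G.map C) (C r) = _
    rw [Polynomial.aeval_C, Algebra.algebraMap_eq_smul_one]
  have fX : f X = G.map C := by
    change Polynomial.aeval (G.map C) X = _
    rw [Polynomial.aeval_X]
  have h := Matrix.det_det (1 - (C X : R[X][X]) • cyc m (X : R[X][X])) f
  rw [det_one_sub_cyc] at h
  have h1 : (f (1 - (C X : R[X][X]) ^ (m + 1) * X)).det = expand R (m + 1) G.charpolyRev := by
    rw [map_sub, map_one, map_mul, map_pow, fC, fX, smul_pow, one_pow, smul_mul_assoc, one_mul,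
      Matrix.charpolyRev, AlgHom.map_det]
    congr 1
    refine Matrix.ext fun i j => ?_
    rw [AlgHom.mapMatrix_apply, Matrix.map_apply, Matrix.sub_apply, Matrix.sub_apply, map_sub]
    simp [Matrix.one_apply, apply_ite (expand R (m + 1))]
  rw [← h1, h, Matrix.charpolyRev]
  congr 1
  refine Matrix.ext fun p q => ?_
  obtain ⟨i, a⟩ := p
  obtain ⟨j, b⟩ := q
  rw [Matrix.comp_apply, Matrix.map_apply, Matrix.sub_apply, Matrix.sub_apply, map_sub,
    Matrix.smul_apply, Matrix.smul_apply, smul_eq_mul, smul_eq_mul, map_mul, fC, Matrix.sub_apply,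
    smul_mul_assoc, one_mul, Matrix.smul_apply, smul_eq_mul]
  congr 1
  · rw [Matrix.one_apply, Matrix.one_apply]
    by_cases hij : i = j
    · subst hij
      simp [Matrix.one_apply]
    · simp [hij]
  · congr 1
    simp only [cyc, cycB, Matrix.of_apply, Matrix.map_apply]
    by_cases hi : i.val < m
    · by_cases hj : j.val = i.val + 1
      · simp [hi, hj, Matrix.one_apply, apply_ite (C : R → R[X])]
      · simp [hi, hj]
    · by_cases hj : j.val = 0
      · simp [hi, hj, fX]
      · simp [hi, hj]

end block

end Groth.Agent.Sga4h.H927.CycMat
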