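import Groth.Agent.Sga4h.H927.CycInv
import Groth.Agent.Sga4h.H616.CompTr

/-!
# Local factors of an extension by zero

`j : X₀ ⟶ P₀` an open immersion of `k`-schemes: `locFactor b (j x) (j_! L) = locFactor a x L`, and
`locFactor b y (j_! L) = 1` for `y ∉ j(X₀)`.
-/

set_option autoImplicit false
universe u
open CategoryTheory CategoryTheory.Limits AlgebraicGeometry Opposite Polynomial

namespace Groth.Agent.Sga4h.H927.ExtLoc

open Groth.Agent.Sga4h.H927.HMod FinStalk CycInv Groth.Agent.Sga4h.H925.Defs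
open Groth.Agent.Sga4h.H616.TrLoc

section iso

variable {Λ : Type} [CommRing Λ] {k : Type u} [Field k] {K : Type u} [Field K] [Algebra k K]
  {X₁ X₂ : Scheme.{u}} (a₁ : X₁ ⟶ Spec (CommRingCat.of k)) (a₂ : X₂ ⟶ Spec (CommRingCat.of k))
  (g : X₁ ⟶ X₂) (w : g ≫ a₂ = a₁) (σ : K ≃ₐ[k] K) (n : ℕ) [Fact FinFr.PullExact.{u}]

include w in
/-- Isomorphic `k`-schemes: the Galois actions are conjugate. -/
theorem exists_equiv_iso (L : EtLam.Sheaf Λ X₂) [IsIso g] :
    ∃ e : HM (EtLam.pullback (FinFr.extπ K a₁) (EtLam.pullback g L)) n ≃ₗ[Λ]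
      HM (EtLam.pullback (FinFr.extπ K a₂) L) n,
      ∀ x, e (galHM a₁ σ (EtLam.pullback g L) n x) = galHM a₂ σ L n (e x) := by
  have := isIso_extHom (K := K) a₁ a₂ g w
  let E₁ := LinearEquiv.ofBijective (chgHM (FinFr.extπ K a₁) g (FinFr.extπ K a₁ ≫ g) rfl L n)
    (bijective_chgHM _ _ _ _ L n)
  let E₂ := LinearEquiv.ofBijective (viaHM (FinFr.extHom (K := K) a₁ g w) (FinFr.extπ K a₂)
    (FinFr.extπ K a₁ ≫ g) (FinFr.extHom_fst a₁ g w) L n) (bijective_viaHM _ _ _ _ L n)
  refine ⟨E₁.trans E₂.symm, fun y => ?_⟩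
  obtain ⟨x, hx⟩ := E₂.surjective (E₁ y)
  have h := galHM_iso_apply a₁ a₂ g w σ L n x y hx.symm
  change E₂.symm (E₁ _) = galHM a₂ σ L n (E₂.symm (E₁ y))
  rw [← hx, E₂.symm_apply_apply, LinearEquiv.symm_apply_eq]
  exact h

include w in
theorem charRev_galHM_iso (L : EtLam.Sheaf Λ X₂) [IsIso g] :
    FinFr.charRev (galHM a₁ σ (EtLam.pullback g L) n) = FinFr.charRev (galHM a₂ σ L n) := by
  obtain ⟨e, he⟩ := exists_equiv_iso a₁ a₂ g w σ n L
  exact CycLin.charRev_conj e _ _ he

theorem charRev_galHM_congr {L M : EtLam.Sheaf Λ X₁} (φ : L.carrier ⟶ M.carrier)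
    [IsIso φ] (h : Equi L M φ) :
    FinFr.charRev (galHM a₁ σ L n) = FinFr.charRev (galHM a₁ σ M n) := by
  let E := LinearEquiv.ofBijective (mapHM (pullL (FinFr.extπ K a₁) φ) (h.pull _) n)
    (bijective_mapHM _ _ n)
  exact CycLin.charRev_conj E _ _ fun w => (galHM_mapHM a₁ σ φ h n w).symm

end iso

section loc

variable {Λ : Type} [CommRing Λ] {k : Type u} [Field k] {X₀ P₀ : Scheme.{u}}
  (j : X₀ ⟶ P₀) [IsOpenImmersion j]
  (a : X₀ ⟶ Spec (CommRingCat.of k)) (b : P₀ ⟶ Spec (CommRingCat.of k)) (hj : j ≫ b = a)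

theorem charRev_of_subsingleton {V : Type*} [AddCommGroup V] [Module Λ V] [Subsingleton V]
    (φ : V →ₗ[Λ] V) : FinFr.charRev φ = 1 := by
  rw [FinFr.charRev]
  have h0 : LinearMap.id - (X : Λ[X]) • φ.baseChange Λ[X] =
      (LinearMap.id : TensorProduct Λ Λ[X] V →ₗ[Λ[X]] TensorProduct Λ Λ[X] V) :=
    LinearMap.ext fun x => Subsingleton.elim _ _
  rw [h0, LinearMap.det_id]

theorem subsingleton_HM {X : Scheme.{u}} (L : EtLam.Sheaf Λ X) (h : IsZero L.carrier) (n : ℕ) :
    Subsingleton (HM L n) := by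
  refine subsingleton_of_forall_eq 0 fun v => ?_
  have h3 := mapHM_id_apply (Equi.id L) n v
  rw [mapHM_congr ((IsZero.iff_id_eq_zero _).1 h)] at h3
  rw [← h3]
  exact H616.CompTr.post_zero n _

variable [Fact FinFr.PullExact.{u}]

theorem expand_charRev_of_isZero (κ : Type u) [Field κ] [Fintype κ] (K' : Type u) [Field K'] [Algebra κ K']
    [Algebra.IsAlgebraic κ K'] (M : EtLam.Sheaf Λ (Spec (CommRingCat.of κ))) (h : IsZero M.carrier) (n : ℕ) :
    expand Λ n (FinFr.charRev (galHM (K := K') (𝟙 (Spec (CommRingCat.of κ)))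
      (FinFr.arith κ K').symm M 0)) = 1 := by
  have h1 : IsZero (EtLam.pullback (FinFr.extπ K' (𝟙 (Spec (CommRingCat.of κ)))) M).carrier :=
    (EtCoh.pull (FinFr.extπ K' (𝟙 (Spec (CommRingCat.of κ))))).map_isZero h
  have h2 := subsingleton_HM _ h1 0
  rw [charRev_of_subsingleton, map_one]

/-- The local factor is one if the pulled back sheaf vanishes. -/
theorem locFactor_of_isZero (x : P₀) (M : EtLam.Sheaf Λ P₀)
    (h : IsZero (EtLam.pullback (P₀.fromSpecResidueField x) M).carrier) :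
    FinFr.locFactor b x M = 1 := by
  by_cases hx : Finite (P₀.residueField x : Type u)
  · rw [FinFr.locFactor, dif_pos hx]
    let _ : Fintype (P₀.residueField x : Type u) := Fintype.ofFinite _
    exact expand_charRev_of_isZero (P₀.residueField x : Type u)
      (AlgebraicClosure (P₀.residueField x : Type u)) (EtLam.pullback (P₀.fromSpecResidueField x) M) h _
  · rw [FinFr.locFactor, dif_neg hx]

theorem locFactor_extZero_of_not_mem (x : P₀) (hx : x ∉ Set.range j) (L : EtLam.Sheaf Λ X₀) :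
    FinFr.locFactor b x (FinFr.extZeroLam j L) = 1 := by
  refine locFactor_of_isZero b x _
    (Sga4B.ShriekTools.isZero_pull_extZero j (P₀.fromSpecResidueField x) ?_ L.carrier)
  rw [Set.disjoint_left]
  rintro _ ⟨s, rfl⟩ h
  rw [Scheme.fromSpecResidueField_apply] at h
  exact hx h

include hj in
theorem resMap_str (x : X₀) : Spec.map (j.residueFieldMap x) ≫ P₀.fromSpecResidueField (j x) ≫ b =
    X₀.fromSpecResidueField x ≫ a := by
  rw [← Category.assoc, Scheme.Hom.SpecMap_residueFieldMap_fromSpecResidueField, Category.assoc, hj]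

end loc

section fac

variable {Λ : Type} [Field Λ] {k : Type u} [Field k] [Fintype k] (K : Type u) [Field K] [Algebra k K]
  [Algebra.IsAlgebraic k K] [Fact FinFr.PullExact.{u}] {X₀ P₀ : Scheme.{u}}
  (j : X₀ ⟶ P₀) [IsOpenImmersion j]
  (a : X₀ ⟶ Spec (CommRingCat.of k)) (b : P₀ ⟶ Spec (CommRingCat.of k)) (hj : j ≫ b = a)

include hj in
/-- The Frobenius over a point of the open subscheme. -/
theorem charRev_frobK_extZero (x : X₀) (L : EtLam.Sheaf Λ X₀) :
    FinFr.charRev (frobK K (P₀.fromSpecResidueField (j x) ≫ b)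
      (EtLam.pullback (P₀.fromSpecResidueField (j x)) (FinFr.extZeroLam j L)) 0) =
    FinFr.charRev (frobK K (X₀.fromSpecResidueField x ≫ a)
      (EtLam.pullback (X₀.fromSpecResidueField x) L) 0) := by
  have h1 := charRev_galHM_iso (K := K) (X₀.fromSpecResidueField x ≫ a)
    (P₀.fromSpecResidueField (j x) ≫ b) (Spec.map (j.residueFieldMap x)) (resMap_str j a b hj x)
    (FinFr.arith k K).symm 0
    (EtLam.pullback (P₀.fromSpecResidueField (j x)) (FinFr.extZeroLam j L))
  have h2 := charRev_galHM_congr (K := K) (X₀.fromSpecResidueField x ≫ a) (FinFr.arith k K).symm 0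
    (thL (Spec.map (j.residueFieldMap x)) (P₀.fromSpecResidueField (j x))
      (X₀.fromSpecResidueField x ≫ j) (Scheme.Hom.SpecMap_residueFieldMap_fromSpecResidueField j x)
      (FinFr.extZeroLam j L))
    (equi_thL _ _ _ _ (FinFr.extZeroLam j L))
  have h3 := charRev_galHM_congr (K := K) (X₀.fromSpecResidueField x ≫ a) (FinFr.arith k K).symm 0
    (H616.CompTr.bcHom j (X₀.fromSpecResidueField x) L ≫
      H927.ExtZeroId.lamHom (EtLam.pullback (X₀.fromSpecResidueField x) L))
    ((H616.CompTr.equi_bcHom j (X₀.fromSpecResidueField x) L).comp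
      (H927.ExtZeroId.lamHom_act (EtLam.pullback (X₀.fromSpecResidueField x) L)))
  exact h1.symm.trans (h2.trans h3)

include hj K in
/-- The local factors of `j_! L` on `X₀` are those of `L`. -/
theorem locFactor_extZero [IsAlgClosed K] (x : X₀) [Finite (X₀.residueField x : Type u)]
    (L : EtLam.Sheaf Λ X₀) (hL : FinFib L) (hL' : FinFib (FinFr.extZeroLam j L)) :
    FinFr.locFactor b (j x) (FinFr.extZeroLam j L) = FinFr.locFactor a x L := by
  have : Finite (P₀.residueField (j x) : Type u) :=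
    Finite.of_injective (j.residueFieldMap x).hom (j.residueFieldMap x).hom.injective
  rw [← charRev_frobK K b (j x) _ hL', ← charRev_frobK K a x L hL]
  exact charRev_frobK_extZero K j a b hj x L

end fac

end Groth.Agent.Sga4h.H927.ExtLoc
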