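import Groth.Prelude.Def_FinFr
import Mathlib.FieldTheory.Finite.GaloisField
import Mathlib.AlgebraicGeometry.Morphisms.Flat
import Mathlib.AlgebraicGeometry.AffineScheme

/-!
# Points fixed by Frobenius are rational
-/

set_option autoImplicit false
universe u

open CategoryTheory CategoryTheory.Limits AlgebraicGeometry Opposite Polynomial

namespace Groth.Agent.Sga4h.H927.FrobFix

theorem mem_range_of_pow_card {k K : Type*} [Field k] [Fintype k] [Field K] [Algebra k K] (x : K)
    (h : x ^ Fintype.card k = x) : x ∈ (algebraMap k K).range := by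
  have h1 : (X ^ Fintype.card k - X : k[X]) ≠ 0 :=
    FiniteField.X_pow_card_sub_X_ne_zero k (Fintype.one_lt_card)
  have h2 : (X ^ Fintype.card k - X : k[X]).Splits := by
    rw [splits_iff_card_roots, FiniteField.roots_X_pow_card_sub_X,
      FiniteField.X_pow_card_sub_X_natDegree_eq k Fintype.one_lt_card]
    rfl
  refine h2.mem_range_of_isRoot h1 ?_
  simp [IsRoot, h]

section

variable {k : Type u} [Field k] {K : Type u} [Field K] [Algebra k K]

instance epi_specι : Epi (FinFr.specι k K) := by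
  have : Flat (FinFr.specι k K) := by
    rw [Flat.SpecMap_iff]
    rw [CommRingCat.hom_ofHom, RingHom.flat_algebraMap_iff]
    infer_instance
  have : Surjective (FinFr.specι k K) := ⟨fun y => ⟨IsLocalRing.closedPoint K, by
    have : Subsingleton (Spec (CommRingCat.of k)) :=
      inferInstanceAs (Subsingleton (PrimeSpectrum k))
    exact Subsingleton.elim _ _⟩⟩
  exact Flat.epi_of_flat_of_surjective _

variable {X₀ : Scheme.{u}} (a : X₀ ⟶ Spec (CommRingCat.of k))

variable (K) in
/-- The `K`-points of the `k`-scheme `X₀`. -/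
abbrev KPt : Type u := {ξ : Spec (CommRingCat.of K) ⟶ X₀ // ξ ≫ a = FinFr.specι k K}

/-- The action of automorphisms on `K`-points. -/
noncomputable def act (σ : K ≃ₐ[k] K) (ξ : KPt K a) : KPt K a :=
  ⟨Spec.map (CommRingCat.ofHom (σ : K →+* K)) ≫ ξ.1, by
    rw [Category.assoc, ξ.2, FinFr.specMap_algEquiv_comp_specι]⟩

theorem specMap_symm (σ : K ≃ₐ[k] K) :
    Spec.map (CommRingCat.ofHom (σ : K →+* K)) ≫ Spec.map (CommRingCat.ofHom (σ.symm : K →+* K)) =
      𝟙 _ := by
  rw [← Spec.map_comp, ← Spec.map_id]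
  congr 1
  ext x
  exact σ.apply_symm_apply x

theorem specMap_symm' (σ : K ≃ₐ[k] K) :
    Spec.map (CommRingCat.ofHom (σ.symm : K →+* K)) ≫ Spec.map (CommRingCat.ofHom (σ : K →+* K)) =
      𝟙 _ := by
  rw [← Spec.map_comp, ← Spec.map_id]
  congr 1
  ext x
  exact σ.symm_apply_apply x

variable {a}

/-- The `K`-point of a rational point. -/
noncomputable def ofRat (x : FinFr.RatPt a) : KPt K a :=
  ⟨FinFr.specι k K ≫ x.1, by rw [Category.assoc, x.2, Category.comp_id]⟩

theorem ofRat_injective : Function.Injective (ofRat (K := K) (a := a)) := by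
  intro x y h
  apply Subtype.ext
  rw [← cancel_epi (FinFr.specι k K)]
  exact congrArg Subtype.val h

theorem act_ofRat (σ : K ≃ₐ[k] K) (x : FinFr.RatPt a) : act a σ (ofRat x) = ofRat x := by
  apply Subtype.ext
  change Spec.map _ ≫ FinFr.specι k K ≫ x.1 = FinFr.specι k K ≫ x.1
  rw [← Category.assoc, FinFr.specMap_algEquiv_comp_specι]

/-- A `K`-point of an affine scheme fixed by Frobenius is rational. -/
theorem exists_ofRat [Fintype k] [Algebra.IsAlgebraic k K] [IsAffine X₀] (ξ : KPt K a)
    (h : act a (FinFr.arith k K) ξ = ξ) : ∃ x : FinFr.RatPt a, ofRat x = ξ := by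
  obtain ⟨ξ, hξ⟩ := ξ
  replace h : Spec.map (CommRingCat.ofHom (FinFr.arith k K : K →+* K)) ≫ ξ = ξ :=
    congrArg Subtype.val h
  let g : Γ(X₀, ⊤) ⟶ CommRingCat.of K := Spec.preimage (ξ ≫ X₀.isoSpec.hom)
  have hg : Spec.map g = ξ ≫ X₀.isoSpec.hom := Spec.map_preimage _
  have hg' : g ≫ CommRingCat.ofHom (FinFr.arith k K : K →+* K) = g := by
    apply Spec.map_injective
    rw [Spec.map_comp, hg, ← Category.assoc, h]
  have h2 : ∀ b, g.hom b ∈ (algebraMap k K).range := by
    intro b
    apply mem_range_of_pow_card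
    exact congrArg (fun f => f.hom b) hg'
  let e : k ≃+* (algebraMap k K).range :=
    RingEquiv.ofBijective (algebraMap k K).rangeRestrict
      ⟨fun x y hxy => (algebraMap k K).injective (congrArg Subtype.val hxy),
        (algebraMap k K).rangeRestrict_surjective⟩
  let g₀ : Γ(X₀, ⊤) ⟶ CommRingCat.of k :=
    CommRingCat.ofHom ((e.symm : (algebraMap k K).range →+* k).comp
      (g.hom.codRestrict (algebraMap k K).range h2))
  have h3 : g₀ ≫ CommRingCat.ofHom (algebraMap k K) = g := by
    ext b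
    change algebraMap k K (e.symm ⟨g.hom b, h2 b⟩) = g.hom b
    exact congrArg Subtype.val (e.apply_symm_apply ⟨g.hom b, h2 b⟩)
  have h4 : FinFr.specι k K ≫ Spec.map g₀ ≫ X₀.isoSpec.inv = ξ := by
    rw [← Category.assoc, ← Spec.map_comp, h3, hg, Category.assoc, Iso.hom_inv_id, Category.comp_id]
  refine ⟨⟨Spec.map g₀ ≫ X₀.isoSpec.inv, ?_⟩, Subtype.ext h4⟩
  rw [← cancel_epi (FinFr.specι k K), ← Category.assoc, h4, hξ, Category.comp_id]

end

end Groth.Agent.Sga4h.H927.FrobFix
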