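import Groth.Prelude.Def_FinFr
import Groth.Agent.Etrest.HPost2
import Groth.Agent.EtpbcB.HRel
import Mathlib.Algebra.Category.ModuleCat.Basic

/-!
# Cohomology of sheaves of `Λ`-modules as a sealed `Λ`-module

KERNEL SPEED NOTE.  Every declaration whose type mentions the module structure `EtLam.moduleH` on
`EtCoh.H X L.carrier n` costs 3 to 15 seconds of kernel time.  `HM L n : ModuleCat Λ` is the same
module, but sealed: declarations about `HM` are checked in milliseconds.  All the slow declarations are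
in this file:
* `mapHM φ h n : HM L n →ₗ[Λ] HM M n` for an equivariant morphism of sheaves;
* `viaHM f t f₀ w L n : HM (t⁻¹ L) n →ₗ[Λ] HM (f₀⁻¹ L) n` for `f ≫ t = f₀`.
-/

set_option autoImplicit false
universe u

open CategoryTheory CategoryTheory.Limits AlgebraicGeometry Opposite

namespace Groth.Agent.Sga4h.H927.HMod

open Groth.Agent.EtpbcB Groth.Agent.Etrest.HPost Groth.Agent.Etcore.PullCoh

variable {Λ : Type} [CommRing Λ]

attribute [local instance] HRel.pull_exact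

/-- `H^n(X, L)` as a `Λ`-module. -/
noncomputable def HM {X : Scheme.{u}} (L : EtLam.Sheaf Λ X) (n : ℕ) : ModuleCat.{u + 1} Λ :=
  ModuleCat.of Λ (EtCoh.H X L.carrier n)

/-- Equivariance of a morphism of sheaves of `Λ`-modules. -/
def Equi {X : Scheme.{u}} (L M : EtLam.Sheaf Λ X) (φ : L.carrier ⟶ M.carrier) : Prop :=
  ∀ r, L.act r ≫ φ = φ ≫ M.act r

theorem post_equi {X : Scheme.{u}} {L M : EtLam.Sheaf Λ X} (φ : L.carrier ⟶ M.carrier)
    (h : Equi L M φ) (n : ℕ) (r : Λ) (x : EtCoh.H X L.carrier n) :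
    post φ n (post (L.act r) n x) = post (M.act r) n (post φ n x) := by
  rw [post_comp, post_comp, h]

/-- The map on cohomology induced by a morphism of sheaves of `Λ`-modules. -/
noncomputable def mapHM {X : Scheme.{u}} {L M : EtLam.Sheaf Λ X} (φ : L.carrier ⟶ M.carrier)
    (h : Equi L M φ) (n : ℕ) : HM L n →ₗ[Λ] HM M n where
  toFun := post φ n
  map_add' x y := map_add (post φ n) x y
  map_smul' r x := post_equi φ h n r x

theorem via_post {X Y Z : Scheme.{u}} (f : X ⟶ Y) (t : Y ⟶ Z) (f₀ : X ⟶ Z) (w : f ≫ t = f₀)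
    {G G' : EtCoh.Ab Z} (φ : G ⟶ G') (n : ℕ) (x : EtCoh.H Y ((EtCoh.pull t).obj G) n) :
    EtCore.HpullVia f t f₀ w G' n (post ((EtCoh.pull t).map φ) n x) =
      post ((EtCoh.pull f₀).map φ) n (EtCore.HpullVia f t f₀ w G n x) := by
  rw [HpullVia_post, HpullVia_post, Hpull_post, post_comp, post_comp, th_nat]

/-- The relative pullback on cohomology with coefficients in a sheaf of `Λ`-modules. -/
noncomputable def viaHM {X Y Z : Scheme.{u}} (f : X ⟶ Y) (t : Y ⟶ Z) (f₀ : X ⟶ Z) (w : f ≫ t = f₀)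
    (L : EtLam.Sheaf Λ Z) (n : ℕ) :
    HM (EtLam.pullback t L) n →ₗ[Λ] HM (EtLam.pullback f₀ L) n where
  toFun := EtCore.HpullVia f t f₀ w L.carrier n
  map_add' x y := map_add (EtCore.HpullVia f t f₀ w L.carrier n) x y
  map_smul' r x := via_post f t f₀ w (L.act r) n x

/-- The Galois action as an endomorphism of the sealed module. -/
noncomputable def galHM {k : Type u} [Field k] {K : Type u} [Field K] [Algebra k K]
    {X₀ : Scheme.{u}} (a : X₀ ⟶ Spec (CommRingCat.of k)) [Fact FinFr.PullExact.{u}]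
    (σ : K ≃ₐ[k] K) (L : EtLam.Sheaf Λ X₀) (n : ℕ) :
    HM (EtLam.pullback (FinFr.extπ K a) L) n →ₗ[Λ] HM (EtLam.pullback (FinFr.extπ K a) L) n :=
  FinFr.galLin a σ L n

theorem galHM_eq {k : Type u} [Field k] {K : Type u} [Field K] [Algebra k K]
    {X₀ : Scheme.{u}} (a : X₀ ⟶ Spec (CommRingCat.of k)) [Fact FinFr.PullExact.{u}]
    (σ : K ≃ₐ[k] K) (L : EtLam.Sheaf Λ X₀) (n : ℕ) :
    galHM a σ L n = viaHM (FinFr.galAct a σ) (FinFr.extπ K a) (FinFr.extπ K a)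
      (FinFr.galAct_fst a σ) L n := rfl

theorem trace_galLin_eq {k : Type u} [Field k] {K : Type u} [Field K] [Algebra k K]
    {X₀ : Scheme.{u}} (a : X₀ ⟶ Spec (CommRingCat.of k)) [Fact FinFr.PullExact.{u}]
    (σ : K ≃ₐ[k] K) (L : EtLam.Sheaf Λ X₀) (n : ℕ) :
    LinearMap.trace Λ _ (FinFr.galLin a σ L n) = LinearMap.trace Λ _ (galHM a σ L n) := rfl

theorem viaHM_comp_apply {X Y Z T : Scheme.{u}} (f : X ⟶ Y) (g : Y ⟶ Z) (h : X ⟶ Z)
    (tX : X ⟶ T) (tY : Y ⟶ T) (tZ : Z ⟶ T) (w : f ≫ g = h) (wf : f ≫ tY = tX)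
    (wg : g ≫ tZ = tY) (wh : h ≫ tZ = tX) (L : EtLam.Sheaf Λ T) (n : ℕ)
    (x : HM (EtLam.pullback tZ L) n) :
    viaHM f tY tX wf L n (viaHM g tZ tY wg L n x) = viaHM h tZ tX wh L n x :=
  HRel.HpullVia_comp f g h tX tY tZ w wf wg wh L.carrier n x

theorem viaHM_id_apply {X T : Scheme.{u}} (t : X ⟶ T) (w : 𝟙 X ≫ t = t) (L : EtLam.Sheaf Λ T) (n : ℕ)
    (x : HM (EtLam.pullback t L) n) : viaHM (𝟙 X) t t w L n x = x :=
  HRel.HpullVia_id t w L.carrier n x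

theorem mapHM_comp_apply {X : Scheme.{u}} {L M N : EtLam.Sheaf Λ X} (φ : L.carrier ⟶ M.carrier)
    (h : Equi L M φ) (ψ : M.carrier ⟶ N.carrier) (h' : Equi M N ψ) (h'' : Equi L N (φ ≫ ψ)) (n : ℕ)
    (x : HM L n) : mapHM ψ h' n (mapHM φ h n x) = mapHM (φ ≫ ψ) h'' n x :=
  post_comp φ ψ n x

theorem mapHM_id_apply {X : Scheme.{u}} {L : EtLam.Sheaf Λ X} (h : Equi L L (𝟙 L.carrier)) (n : ℕ)
    (x : HM L n) : mapHM (𝟙 L.carrier) h n x = x :=
  post_id n x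

/-- The pullback of a morphism between the carriers of sheaves of `Λ`-modules. -/
noncomputable def pullL {Y Z : Scheme.{u}} (t : Y ⟶ Z) {L M : EtLam.Sheaf Λ Z}
    (φ : L.carrier ⟶ M.carrier) : (EtLam.pullback t L).carrier ⟶ (EtLam.pullback t M).carrier :=
  (EtCoh.pull t).map φ

theorem isIso_pullL {Y Z : Scheme.{u}} (t : Y ⟶ Z) {L M : EtLam.Sheaf Λ Z}
    (φ : L.carrier ⟶ M.carrier) [IsIso φ] : IsIso (pullL t φ) := by
  unfold pullL
  exact Functor.map_isIso (EtCoh.pull t) φ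

attribute [instance] isIso_pullL

theorem Equi.pull {Y Z : Scheme.{u}} (t : Y ⟶ Z) {L M : EtLam.Sheaf Λ Z}
    {φ : L.carrier ⟶ M.carrier} (h : Equi L M φ) :
    Equi (EtLam.pullback t L) (EtLam.pullback t M) (pullL t φ) := fun r => by
  change (EtCoh.pull t).map (L.act r) ≫ (EtCoh.pull t).map φ =
    (EtCoh.pull t).map φ ≫ (EtCoh.pull t).map (M.act r)
  rw [← Functor.map_comp, ← Functor.map_comp, h]

/-- The canonical map `t⁻¹ s⁻¹ L ⟶ (t ≫ s)⁻¹ L`. -/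
noncomputable def thL {Y Z T : Scheme.{u}} (t : Y ⟶ Z) (s : Z ⟶ T) (ts : Y ⟶ T) (w : t ≫ s = ts)
    (L : EtLam.Sheaf Λ T) :
    (EtLam.pullback t (EtLam.pullback s L)).carrier ⟶ (EtLam.pullback ts L).carrier :=
  th t s ts w L.carrier

theorem isIso_th {Y Z T : Scheme.{u}} (t : Y ⟶ Z) (s : Z ⟶ T) (ts : Y ⟶ T) (w : t ≫ s = ts)
    (G : EtCoh.Ab T) : IsIso (th t s ts w G) := inferInstance

instance isIso_thL {Y Z T : Scheme.{u}} (t : Y ⟶ Z) (s : Z ⟶ T) (ts : Y ⟶ T) (w : t ≫ s = ts)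
    (L : EtLam.Sheaf Λ T) : IsIso (thL t s ts w L) := isIso_th t s ts w L.carrier

theorem equi_thL {Y Z T : Scheme.{u}} (t : Y ⟶ Z) (s : Z ⟶ T) (ts : Y ⟶ T) (w : t ≫ s = ts)
    (L : EtLam.Sheaf Λ T) :
    Equi (EtLam.pullback t (EtLam.pullback s L)) (EtLam.pullback ts L) (thL t s ts w L) :=
  fun r => th_nat t s ts w (L.act r)

/-- Naturality of the relative pullback in the sheaf. -/
theorem viaHM_mapHM_apply {X Y Z : Scheme.{u}} (f : X ⟶ Y) (t : Y ⟶ Z) (f₀ : X ⟶ Z)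
    (w : f ≫ t = f₀) {L M : EtLam.Sheaf Λ Z} (φ : L.carrier ⟶ M.carrier) (n : ℕ)
    (x : HM (EtLam.pullback t L) n)
    (h₁ : Equi (EtLam.pullback t L) (EtLam.pullback t M) (pullL t φ))
    (h₂ : Equi (EtLam.pullback f₀ L) (EtLam.pullback f₀ M) (pullL f₀ φ)) :
    viaHM f t f₀ w M n (mapHM (pullL t φ) h₁ n x) =
      mapHM (pullL f₀ φ) h₂ n (viaHM f t f₀ w L n x) :=
  via_post f t f₀ w φ n x

theorem via_th {X Y Z T : Scheme.{u}} (f : X ⟶ Y) (t : Y ⟶ Z) (s : Z ⟶ T)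
    (ft : X ⟶ Z) (ts : Y ⟶ T) (fts : X ⟶ T) (w₁ : f ≫ t = ft) (w₂ : t ≫ s = ts)
    (w₃ : f ≫ ts = fts) (w₄ : ft ≫ s = fts) (G : EtCoh.Ab T) (n : ℕ)
    (x : EtCoh.H Y ((EtCoh.pull t).obj ((EtCoh.pull s).obj G)) n) :
    EtCore.HpullVia f ts fts w₃ G n (post (th t s ts w₂ G) n x) =
      post (th ft s fts w₄ G) n (EtCore.HpullVia f t ft w₁ ((EtCoh.pull s).obj G) n x) := by
  rw [HpullVia_post, HpullVia_post, Hpull_post, post_comp, post_comp,
    th_assoc f t s ft ts fts w₁ w₂ w₃ w₄]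

/-- Compatibility of the change of reference with the relative pullback. -/
theorem viaHM_th_apply {X Y Z T : Scheme.{u}} (f : X ⟶ Y) (t : Y ⟶ Z) (s : Z ⟶ T)
    (ft : X ⟶ Z) (ts : Y ⟶ T) (fts : X ⟶ T) (w₁ : f ≫ t = ft) (w₂ : t ≫ s = ts)
    (w₃ : f ≫ ts = fts) (w₄ : ft ≫ s = fts) (L : EtLam.Sheaf Λ T) (n : ℕ)
    (x : HM (EtLam.pullback t (EtLam.pullback s L)) n) :
    viaHM f ts fts w₃ L n (mapHM (thL t s ts w₂ L) (equi_thL t s ts w₂ L) n x) =
      mapHM (thL ft s fts w₄ L) (equi_thL ft s fts w₄ L) n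
        (viaHM f t ft w₁ (EtLam.pullback s L) n x) :=
  via_th f t s ft ts fts w₁ w₂ w₃ w₄ L.carrier n x

end Groth.Agent.Sga4h.H927.HMod
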