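import Groth.Agent.Etbase.StalkPush
import Groth.Agent.Etbase.PullUnit
import Groth.Agent.Etcore.HpullCalc
import Groth.Agent.Sga4h.EulerPoint
import Mathlib.AlgebraicGeometry.AlgClosed.Basic
import Mathlib.AlgebraicGeometry.Morphisms.QuasiFinite
import Mathlib.AlgebraicGeometry.Artinian

/-!
# Global sections on a scheme finite over an algebraically closed field

`bijective_unitSec_pi`: for `p : X ⟶ Spec Ω` finite, `Ω` algebraically closed, and an abelian sheaf `F`,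
the map `F(X) → ∏_ξ (ξ⁻¹F)(Spec Ω)` over the sections `ξ` of `p` is bijective.
-/

set_option autoImplicit false
universe u

open CategoryTheory CategoryTheory.Limits AlgebraicGeometry Opposite

namespace Groth.Agent.Sga4h.H927.PtDecomp

open Groth.Agent.EtpbcA.Germ Groth.Agent.Etcore.HpullCalc Groth.Agent.Etbase
open Groth.Agent.Etbase.FinLiftSch

section point

variable {Ω : Type u} [Field Ω] [IsSepClosed Ω]

/-- The canonical point of `X` over `ξ`. -/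
noncomputable def t₀ {X : Scheme.{u}} (ξ : Spec (CommRingCat.of Ω) ⟶ X) : Fib ξ (EtCoh.top X) :=
  Over.homMk ξ (Category.comp_id _)

theorem fib_top_eq {X : Scheme.{u}} (ξ : Spec (CommRingCat.of Ω) ⟶ X) (t : Fib ξ (EtCoh.top X)) :
    t = t₀ ξ := by
  apply Over.OverMorphism.ext
  have h : (t.left : Spec (CommRingCat.of Ω) ⟶ X) ≫ 𝟙 X = ξ := Over.w t
  exact (Category.comp_id _).symm.trans h

theorem fib_bcTop_eq {X Y : Scheme.{u}} (f : X ⟶ Y) (ξ : Spec (CommRingCat.of Ω) ⟶ X)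
    (t t' : Fib ξ ((EtCoh.bc f).obj (EtCoh.top Y))) : t = t' := by
  have h : ∀ t : Fib ξ ((EtCoh.bc f).obj (EtCoh.top Y)), t = fmap ξ (EtCore.bcTopIso f).inv (t₀ ξ) := by
    intro t
    have h1 := fmap_comp ξ (EtCore.bcTopIso f).inv (EtCore.bcTopIso f).hom t
    rw [fib_top_eq ξ (fmap ξ (EtCore.bcTopIso f).hom t), Iso.hom_inv_id] at h1
    rw [← h1]
    exact (ConcreteCategory.congr_hom ((Scheme.pointSmallEtale ξ).fiber.map_id _) t).symm
  rw [h t, h t']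

variable (G : EtCoh.Ab (Spec (CommRingCat.of Ω)))

instance : Subsingleton (Spec (CommRingCat.of Ω)) :=
  inferInstanceAs (Subsingleton (PrimeSpectrum Ω))

theorem germ_top_injective : Function.Injective (germ (𝟙 _) G (t₀ (𝟙 (Spec (CommRingCat.of Ω))))) := by
  rw [injective_iff_map_eq_zero]
  exact fun s hs => EulerPoint.sect_eq_zero (𝟙 _) G _ s hs

theorem germ_top_surjective :
    Function.Surjective (germ (𝟙 _) G (t₀ (𝟙 (Spec (CommRingCat.of Ω))))) := by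
  intro x
  obtain ⟨U, t, s, rfl⟩ := germ_surj (𝟙 _) G x
  have ht : (t.left : Spec (CommRingCat.of Ω) ⟶ U.left) ≫ U.hom = 𝟙 _ := Over.w t
  let g : EtCoh.top (Spec (CommRingCat.of Ω)) ⟶ U := mkHom t.left ht
  refine ⟨G.obj.map g.op s, ?_⟩
  rw [germ_res]
  congr 1

/-- Germs of the unit on global sections. -/
theorem germ_unitSec {X : Scheme.{u}} (ξ : Spec (CommRingCat.of Ω) ⟶ X) (F : EtCoh.Ab X)
    (s : EtCoh.sect F (EtCoh.top X)) :
    germ (𝟙 _) ((EtCoh.pull ξ).obj F) (t₀ (𝟙 (Spec (CommRingCat.of Ω)))) ((unitSec ξ F).hom s) =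
      (StalkPull.stalkPullIso ξ (𝟙 _)).hom.app F (germ (𝟙 _ ≫ ξ) F (t₀ (𝟙 _ ≫ ξ)) s) := by
  have h1 := ConcreteCategory.congr_hom
    (PullUnit.toPresheafFiber_unitSect ξ (𝟙 (Spec (CommRingCat.of Ω))) F (EtCoh.top X)
      (t₀ (𝟙 _ ≫ ξ))) s
  refine Eq.trans ?_ h1.symm
  change germ (𝟙 _) ((EtCoh.pull ξ).obj F) (t₀ (𝟙 (Spec (CommRingCat.of Ω))))
    (((EtCoh.pull ξ).obj F).obj.map (EtCore.bcTopIso ξ).inv.op
      (PullUnit.unitSect ξ F (EtCoh.top X) s)) = _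
  rw [germ_res]
  exact congrArg (fun t => germ (𝟙 _) ((EtCoh.pull ξ).obj F) t
    (PullUnit.unitSect ξ F (EtCoh.top X) s)) (fib_bcTop_eq ξ (𝟙 _) _ _)

theorem exists_stalk {X : Scheme.{u}} (ξ : Spec (CommRingCat.of Ω) ⟶ X) (F : EtCoh.Ab X)
    (z : EtCoh.sect ((EtCoh.pull ξ).obj F) (EtCoh.top _)) :
    ∃ g : (EtCoh.stalk ξ).obj F, ∀ s : EtCoh.sect F (EtCoh.top X),
      germ ξ F (t₀ ξ) s = g → (unitSec ξ F).hom s = z := by
  let e := (StalkPull.stalkPullIso ξ (𝟙 (Spec (CommRingCat.of Ω)))).app F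
  let g' : (EtCoh.stalk (𝟙 _ ≫ ξ)).obj F :=
    e.inv (germ (𝟙 _) ((EtCoh.pull ξ).obj F) (t₀ (𝟙 (Spec (CommRingCat.of Ω)))) z)
  have h1 : ∀ s : EtCoh.sect F (EtCoh.top X), germ (𝟙 _ ≫ ξ) F (t₀ (𝟙 _ ≫ ξ)) s = g' →
      (unitSec ξ F).hom s = z := by
    intro s hs
    apply germ_top_injective
    rw [germ_unitSec, hs]
    exact ConcreteCategory.congr_hom e.inv_hom_id _
  have h2 : ∀ (ξ' : Spec (CommRingCat.of Ω) ⟶ X) (_ : 𝟙 _ ≫ ξ = ξ'),
      ∃ g : (EtCoh.stalk ξ').obj F, ∀ s : EtCoh.sect F (EtCoh.top X),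
        germ ξ' F (t₀ ξ') s = g → germ (𝟙 _ ≫ ξ) F (t₀ (𝟙 _ ≫ ξ)) s = g' := by
    rintro ξ' rfl
    exact ⟨g', fun s hs => hs⟩
  obtain ⟨g, hg⟩ := h2 ξ (Category.id_comp _)
  exact ⟨g, fun s hs => h1 s (hg s hs)⟩

theorem germ_eq_zero {X : Scheme.{u}} (ξ : Spec (CommRingCat.of Ω) ⟶ X) (F : EtCoh.Ab X)
    (s : EtCoh.sect F (EtCoh.top X)) (h : (unitSec ξ F).hom s = 0) : germ ξ F (t₀ ξ) s = 0 := by
  let e := (StalkPull.stalkPullIso ξ (𝟙 (Spec (CommRingCat.of Ω)))).app F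
  have h1 : germ (𝟙 _ ≫ ξ) F (t₀ (𝟙 _ ≫ ξ)) s = 0 := by
    have h2 := germ_unitSec ξ F s
    rw [h, map_zero] at h2
    have h3 := congrArg (fun a => e.inv a) h2
    refine (ConcreteCategory.congr_hom e.hom_inv_id _).symm.trans (h3.symm.trans (map_zero _))
  have h2 : ∀ (ξ' : Spec (CommRingCat.of Ω) ⟶ X) (_ : 𝟙 _ ≫ ξ = ξ'),
      germ ξ' F (t₀ ξ') s = 0 := by
    rintro ξ' rfl
    exact h1
  exact h2 ξ (Category.id_comp _)

end point

section finite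

variable {Ω : Type u} [Field Ω] [IsAlgClosed Ω] {X : Scheme.{u}}
  (p : X ⟶ Spec (CommRingCat.of Ω)) [IsFinite p] (F : EtCoh.Ab X)

theorem exists_sect_germ (z : ∀ ξ : {ξ : Spec (CommRingCat.of Ω) ⟶ X // ξ ≫ p = 𝟙 _},
      (EtCoh.stalk ξ.1).obj F) :
    ∃ s : EtCoh.sect F (EtCoh.top X), ∀ ξ, germ ξ.1 F (t₀ ξ.1) s = z ξ := by
  obtain ⟨x, hx⟩ := StalkPush.surjective_cmp (η := 𝟙 _) p F z
  obtain ⟨s, hs⟩ := germ_top_surjective ((EtCoh.push p).obj F) x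
  refine ⟨F.obj.map (EtCore.bcTopIso p).inv.op s, fun ξ => ?_⟩
  rw [germ_res, ← hx ξ, ← hs]
  refine Eq.trans ?_ (StalkPush.germ_cmp_apply p ξ.1 ξ.2 F _ _ s).symm
  exact congrArg (fun t => germ ξ.1 F t s) (fib_bcTop_eq p ξ.1 _ _)

theorem eq_zero_of_germ (s : EtCoh.sect F (EtCoh.top X))
    (h : ∀ ξ : {ξ : Spec (CommRingCat.of Ω) ⟶ X // ξ ≫ p = 𝟙 _}, germ ξ.1 F (t₀ ξ.1) s = 0) :
    s = 0 := by
  refine sect_ext F s 0 fun x => ?_
  have hA : IsLocallyArtinian X := IsLocallyArtinian.of_locallyQuasiFinite p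
  have hD : DiscreteTopology X := inferInstance
  have hx : IsClosed ({x} : Set X) := isClosed_discrete _
  let ξ := pointOfClosedPoint p x hx
  have hξ : ξ ≫ p = 𝟙 _ := pointOfClosedPoint_comp p x hx
  have h1 := h ⟨ξ, hξ⟩
  rw [← map_zero (germ ξ F (t₀ ξ)), germ_eq_iff] at h1
  obtain ⟨V, g, v, hv, e⟩ := h1
  refine ⟨V, g, ⟨pt ξ v, ?_⟩, e⟩
  rw [← pt_fmap, hv]
  exact pointOfClosedPoint_apply p x hx _

/-- Global sections of a sheaf on a scheme finite over an algebraically closed field. -/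
theorem bijective_unitSec_pi :
    Function.Bijective (fun (s : EtCoh.sect F (EtCoh.top X))
      (ξ : {ξ : Spec (CommRingCat.of Ω) ⟶ X // ξ ≫ p = 𝟙 _}) => (unitSec ξ.1 F).hom s) := by
  constructor
  · intro s s' h
    rw [← sub_eq_zero]
    refine eq_zero_of_germ p F _ fun ξ => germ_eq_zero ξ.1 F _ ?_
    rw [map_sub, sub_eq_zero]
    exact congrFun h ξ
  · intro z
    choose g hg using fun ξ : {ξ : Spec (CommRingCat.of Ω) ⟶ X // ξ ≫ p = 𝟙 _} =>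
      exists_stalk ξ.1 F (z ξ)
    obtain ⟨s, hs⟩ := exists_sect_germ p F g
    exact ⟨s, funext fun ξ => hg ξ s (hs ξ)⟩

end finite

end Groth.Agent.Sga4h.H927.PtDecomp
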