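import Groth.Agent.Sga4h.H927.PtDecomp
import Groth.Agent.Sga4h.H927.HModBasic
import Groth.Agent.Sga4h.H927.FrobFix
import Groth.Agent.Etcore.HpullEq
import Groth.Agent.Etcore.HpullViaEq

/-!
# `H⁰` of a finite scheme over an algebraically closed field and the action of Galois
-/

set_option autoImplicit false
universe u

open CategoryTheory CategoryTheory.Limits AlgebraicGeometry Opposite

namespace Groth.Agent.Sga4h.H927.PtH0

open Groth.Agent.Etcore Groth.Agent.Etcore.EtInst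
open Groth.Agent.EtpbcB
attribute [local instance] HRel.pull_exact

section

variable {Ω : Type u} [Field Ω] [IsAlgClosed Ω] {X : Scheme.{u}}
  (p : X ⟶ Spec (CommRingCat.of Ω)) [IsFinite p] (F : EtCoh.Ab X)

theorem bijective_hp_pi :
    Function.Bijective (fun (s : HH X F 0)
      (ξ : {ξ : Spec (CommRingCat.of Ω) ⟶ X // ξ ≫ p = 𝟙 _}) => HpullCalc.hp ξ.1 F 0 s) := by
  have h1 := PtDecomp.bijective_unitSec_pi p F
  have h2 : (fun (s : HH X F 0)
      (ξ : {ξ : Spec (CommRingCat.of Ω) ⟶ X // ξ ≫ p = 𝟙 _}) =>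
        HpullCalc.H0 _ _ (HpullCalc.hp ξ.1 F 0 s)) =
      (fun (s : EtCoh.sect F (EtCoh.top X))
      (ξ : {ξ : Spec (CommRingCat.of Ω) ⟶ X // ξ ≫ p = 𝟙 _}) =>
        (HpullCalc.unitSec ξ.1 F).hom s) ∘ HpullCalc.H0 X F := by
    funext s ξ
    exact HpullCalc.hp_zero ξ.1 F s
  have h3 := h1.comp (HpullCalc.H0 X F).bijective
  rw [← h2] at h3
  constructor
  · intro s s' h
    apply h3.1
    funext ξ
    exact congrArg _ (congrFun h ξ)
  · intro z
    obtain ⟨s, hs⟩ := h3.2 (fun ξ => HpullCalc.H0 _ _ (z ξ))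
    refine ⟨s, funext fun ξ => ?_⟩
    exact (HpullCalc.H0 _ _).injective (congrFun hs ξ)

theorem bijective_hp_pi' {ι : Type*} (f : ι → (Spec (CommRingCat.of Ω) ⟶ X))
    (hf : ∀ i, f i ≫ p = 𝟙 _) (hb : Function.Bijective
      (fun i => (⟨f i, hf i⟩ : {ξ : Spec (CommRingCat.of Ω) ⟶ X // ξ ≫ p = 𝟙 _})))
    (F : EtCoh.Ab X) :
    Function.Bijective (fun (s : HH X F 0) (i : ι) => HpullCalc.hp (f i) F 0 s) := by
  have h1 := bijective_hp_pi p F
  let e := Equiv.ofBijective _ hb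
  exact ((Equiv.piCongrLeft (fun ξ : {ξ : Spec (CommRingCat.of Ω) ⟶ X // ξ ≫ p = 𝟙 _} =>
    HH (Spec (CommRingCat.of Ω)) ((EtCoh.pull ξ.1).obj F) 0) e).symm.bijective).comp h1

end

section ext

open FrobFix

variable {k : Type u} [Field k] {K : Type u} [Field K] [Algebra k K]
variable {X₀ : Scheme.{u}} (a : X₀ ⟶ Spec (CommRingCat.of k))
variable {X₁ Y₁ Z₁ : Scheme.{u}}

/-- The section of `X₀ ×_k K ⟶ Spec K` given by a `K`-point of `X₀`. -/
noncomputable def lf (ξ : KPt K a) : Spec (CommRingCat.of K) ⟶ FinFr.ext K a :=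
  pullback.lift ξ.1 (𝟙 _) (by rw [ξ.2, Category.id_comp])

@[reassoc (attr := simp)]
theorem lf_extπ (ξ : KPt K a) : lf a ξ ≫ FinFr.extπ K a = ξ.1 := pullback.lift_fst _ _ _

@[reassoc (attr := simp)]
theorem lf_extStr (ξ : KPt K a) : lf a ξ ≫ FinFr.extStr K a = 𝟙 _ := pullback.lift_snd _ _ _

theorem lf_galAct (σ : K ≃ₐ[k] K) (ξ : KPt K a) :
    lf a ξ ≫ FinFr.galAct a σ =
      Spec.map (CommRingCat.ofHom (σ : K →+* K)) ≫ lf a (act a σ.symm ξ) := by
  apply pullback.hom_ext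
  · rw [Category.assoc, Category.assoc]
    refine (congrArg (lf a ξ ≫ ·) (FinFr.galAct_fst a σ)).trans ?_
    refine Eq.trans ?_ (congrArg (_ ≫ ·) (lf_extπ a (act a σ.symm ξ))).symm
    rw [lf_extπ]
    change ξ.1 = Spec.map _ ≫ Spec.map _ ≫ ξ.1
    rw [← Category.assoc, specMap_symm, Category.id_comp]
  · rw [Category.assoc, Category.assoc]
    refine (congrArg (lf a ξ ≫ ·) (FinFr.galAct_snd a σ)).trans ?_
    refine Eq.trans ?_ (congrArg (_ ≫ ·) (lf_extStr a (act a σ.symm ξ))).symm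
    rw [lf_extStr_assoc, Category.comp_id]

/-- Sections of `X₀ ×_k K ⟶ Spec K` are the `K`-points of `X₀`. -/
noncomputable def secEquiv : KPt K a ≃
    {ξ : Spec (CommRingCat.of K) ⟶ FinFr.ext K a // ξ ≫ FinFr.extStr K a = 𝟙 _} where
  toFun ξ := ⟨lf a ξ, lf_extStr a ξ⟩
  invFun ξ := ⟨ξ.1 ≫ FinFr.extπ K a, by
    rw [Category.assoc, pullback.condition, ← Category.assoc]
    exact (congrArg (· ≫ _) ξ.2).trans (Category.id_comp _)⟩
  left_inv ξ := Subtype.ext (lf_extπ a ξ)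
  right_inv ξ := by
    apply Subtype.ext
    apply pullback.hom_ext
    · exact lf_extπ a _
    · exact (lf_extStr a _).trans ξ.2.symm

theorem isIso_th (f : X₁ ⟶ Y₁) (t : Y₁ ⟶ Z₁) (f₀ : X₁ ⟶ Z₁) (w : f ≫ t = f₀) (G : EtCoh.Ab Z₁) :
    IsIso ((EtCore.pullComp f t).inv.app G ≫ (EtCore.pullCongr w).hom.app G) := by
  have h1 : IsIso ((EtCore.pullComp f t).inv.app G) := inferInstance
  have h2 : IsIso ((EtCore.pullCongr w).hom.app G) := inferInstance
  exact IsIso.comp_isIso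

theorem bijective_hpVia_pi [IsAlgClosed K] [IsFinite a] (G : EtCoh.Ab X₀) :
    Function.Bijective (fun (s : HH (FinFr.ext K a) ((EtCoh.pull (FinFr.extπ K a)).obj G) 0)
      (ξ : KPt K a) => HpullCalc.hpVia (lf a ξ) (FinFr.extπ K a) ξ.1 (lf_extπ a ξ) G 0 s) := by
  have h1 := bijective_hp_pi' (FinFr.extStr K a) (fun ξ : KPt K a => lf a ξ)
    (fun ξ => lf_extStr a ξ) (secEquiv a).bijective ((EtCoh.pull (FinFr.extπ K a)).obj G)
  have h2 : (fun (s : HH (FinFr.ext K a) ((EtCoh.pull (FinFr.extπ K a)).obj G) 0)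
      (ξ : KPt K a) => HpullCalc.hpVia (lf a ξ) (FinFr.extπ K a) ξ.1 (lf_extπ a ξ) G 0 s) =
      Pi.map (fun ξ : KPt K a => HHmap ((EtCore.pullComp (lf a ξ) (FinFr.extπ K a)).inv.app G ≫
        (EtCore.pullCongr (lf_extπ a ξ)).hom.app G) 0) ∘ 
      (fun (s : HH (FinFr.ext K a) ((EtCoh.pull (FinFr.extπ K a)).obj G) 0) (ξ : KPt K a) =>
        HpullCalc.hp (lf a ξ) ((EtCoh.pull (FinFr.extπ K a)).obj G) 0 s) := by
    funext s ξ
    exact HpullCalc.hpVia_apply _ _ _ _ _ _ _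
  rw [h2]
  refine Function.Bijective.comp ?_ h1
  refine Function.Bijective.piMap fun ξ => ?_
  have := isIso_th (lf a ξ) (FinFr.extπ K a) ξ.1 (lf_extπ a ξ) G
  exact HHmap_bijective _ _

end ext

end Groth.Agent.Sga4h.H927.PtH0
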