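import Mathlib.LinearAlgebra.Trace
import Mathlib.LinearAlgebra.Pi

/-!
# The trace of an endomorphism of a finite product
-/

set_option autoImplicit false

namespace Groth.Agent.Sga4h.H927.TracePi

open LinearMap

variable {R : Type*} [CommRing R] {ι : Type*} [Fintype ι] [DecidableEq ι] {V : ι → Type*}
  [∀ i, AddCommGroup (V i)] [∀ i, Module R (V i)] [∀ i, Module.Finite R (V i)]
  [∀ i, Module.Free R (V i)]

/-- The trace of an endomorphism of a finite product is the sum of the traces of its diagonal
blocks. -/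
theorem trace_pi (φ : (∀ i, V i) →ₗ[R] (∀ i, V i)) :
    LinearMap.trace R _ φ =
      ∑ i, LinearMap.trace R (V i) (LinearMap.proj i ∘ₗ φ ∘ₗ LinearMap.single R V i) := by
  have h1 : φ = ∑ i, (φ ∘ₗ LinearMap.single R V i) ∘ₗ LinearMap.proj i := by
    refine LinearMap.ext fun x => ?_
    rw [LinearMap.sum_apply]
    simp only [LinearMap.comp_apply, LinearMap.proj_apply]
    rw [← map_sum]
    congr 1
    exact (LinearMap.sum_single_apply V x).symm
  conv_lhs => rw [h1]
  rw [map_sum]
  refine Finset.sum_congr rfl fun i _ => ?_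
  rw [LinearMap.trace_comp_comm']

/-- The trace of a twisted permutation of the factors. -/
theorem trace_perm (φ : (∀ i, V i) →ₗ[R] (∀ i, V i)) (τ : ι → ι) (s : ∀ i, V (τ i) →ₗ[R] V i)
    (h : ∀ v i, φ v i = s i (v (τ i))) (S : Finset ι) (hS : ∀ i, i ∈ S ↔ τ i = i)
    (g : ∀ i, V i →ₗ[R] V i) (hg : ∀ i (e : τ i = i) (v : ∀ i, V i), s i (v (τ i)) = g i (v i)) :
    LinearMap.trace R _ φ = ∑ i ∈ S, LinearMap.trace R (V i) (g i) := by
  rw [trace_pi, ← Finset.sum_subset (Finset.subset_univ S)]
  · refine Finset.sum_congr rfl fun i hi => ?_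
    congr 1
    refine LinearMap.ext fun x => ?_
    simp only [LinearMap.comp_apply, LinearMap.proj_apply]
    rw [h, hg i ((hS i).1 hi)]
    simp
  · intro i _ hi
    have h0 : (LinearMap.proj i ∘ₗ φ ∘ₗ LinearMap.single R V i : V i →ₗ[R] V i) = 0 := by
      refine LinearMap.ext fun x => ?_
      simp only [LinearMap.comp_apply, LinearMap.proj_apply, LinearMap.zero_apply]
      rw [h]
      have : (LinearMap.single R V i x) (τ i) = 0 := by
        rw [LinearMap.single_apply, Pi.single_eq_of_ne]
        exact fun e => hi ((hS i).2 e)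
      rw [this, map_zero]
    rw [h0, map_zero]

end Groth.Agent.Sga4h.H927.TracePi
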