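import Groth.Agent.Sga4h.H927.PtH0
import Groth.Agent.Sga4h.H927.HModBasic
import Groth.Agent.Sga4h.H927.TracePi
import Groth.Agent.Etbase.FinLiftSch

/-!
# The trace of Frobenius on `H⁰` of a finite scheme over a finite field
-/

set_option autoImplicit false
universe u

open CategoryTheory CategoryTheory.Limits AlgebraicGeometry Opposite
open scoped BigOperators

namespace Groth.Agent.Sga4h.H927.PtTrace

open FrobFix PtH0 Groth.Agent.Sga4h.H927.HMod

variable {Λ : Type}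

section gal

variable [CommRing Λ] {k : Type u} [Field k] {K : Type u} [Field K] [Algebra k K]
variable {X₀ : Scheme.{u}} (a : X₀ ⟶ Spec (CommRingCat.of k))

/-- The cohomology of the restriction of `L` to a `K`-point. -/
noncomputable abbrev VV {X₀ : Scheme.{u}} (L : EtLam.Sheaf Λ X₀) (n : ℕ)
    (ξ : Spec (CommRingCat.of K) ⟶ X₀) : ModuleCat.{u + 1} Λ :=
  HM (EtLam.pullback ξ L) n

/-- Restriction of cohomology classes to `K`-points. -/
noncomputable def toPt (L : EtLam.Sheaf Λ X₀) (n : ℕ) (ξ : KPt K a) :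
    HM (EtLam.pullback (FinFr.extπ K a) L) n →ₗ[Λ] HM (EtLam.pullback ξ.1 L) n :=
  viaHM (lf a ξ) (FinFr.extπ K a) ξ.1 (lf_extπ a ξ) L n

/-- The action of an automorphism on the cohomology of a `K`-point. -/
noncomputable def ptGal (σ : K ≃ₐ[k] K) (L : EtLam.Sheaf Λ X₀) (n : ℕ)
    (η ξ : KPt K a) (h : act a σ η = ξ) :
    HM (EtLam.pullback η.1 L) n →ₗ[Λ] HM (EtLam.pullback ξ.1 L) n :=
  viaHM (Spec.map (CommRingCat.ofHom (σ : K →+* K))) η.1 ξ.1 (congrArg Subtype.val h) L n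

theorem act_act_symm (σ : K ≃ₐ[k] K) (ξ : KPt K a) : act a σ (act a σ.symm ξ) = ξ := by
  apply Subtype.ext
  change Spec.map _ ≫ Spec.map _ ≫ ξ.1 = ξ.1
  rw [← Category.assoc, specMap_symm, Category.id_comp]

theorem act_symm_eq_iff (σ : K ≃ₐ[k] K) (ξ : KPt K a) : act a σ.symm ξ = ξ ↔ act a σ ξ = ξ := by
  constructor
  · intro h
    have := act_act_symm a σ ξ
    rwa [h] at this
  · intro h
    have := act_act_symm a σ.symm ξ
    have h2 : σ.symm.symm = σ := rfl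
    rw [h2, h] at this
    exact this

theorem toPt_galHM [Fact FinFr.PullExact.{u}] (σ : K ≃ₐ[k] K) (L : EtLam.Sheaf Λ X₀) (n : ℕ)
    (ξ : KPt K a) (v : HM (EtLam.pullback (FinFr.extπ K a) L) n) :
    toPt a L n ξ (galHM a σ L n v) =
      ptGal a σ L n (act a σ.symm ξ) ξ (act_act_symm a σ ξ) (toPt a L n (act a σ.symm ξ) v) := by
  rw [galHM_eq]
  unfold toPt ptGal
  refine (viaHM_comp_apply (lf a ξ) (FinFr.galAct a σ) (lf a ξ ≫ FinFr.galAct a σ) ξ.1
    (FinFr.extπ K a) (FinFr.extπ K a) rfl (lf_extπ a ξ) (FinFr.galAct_fst a σ)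
    (by rw [Category.assoc, FinFr.galAct_fst, lf_extπ]) L n v).trans ?_
  exact (viaHM_comp_apply (Spec.map (CommRingCat.ofHom (σ : K →+* K))) (lf a (act a σ.symm ξ))
    (lf a ξ ≫ FinFr.galAct a σ) ξ.1 (act a σ.symm ξ).1 (FinFr.extπ K a) (lf_galAct a σ ξ).symm
    (congrArg Subtype.val (act_act_symm a σ ξ)) (lf_extπ a _)
    (by rw [Category.assoc, FinFr.galAct_fst, lf_extπ]) L n v).symm

theorem bijective_toPt [IsAlgClosed K] [IsFinite a] (L : EtLam.Sheaf Λ X₀) :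
    Function.Bijective (fun (v : HM (EtLam.pullback (FinFr.extπ K a) L) 0) (ξ : KPt K a) =>
      toPt a L 0 ξ v) :=
  bijective_hpVia_pi a L.carrier

end gal

section trace

variable [Field Λ] {k : Type u} [Field k] {K : Type u} [Field K] [Algebra k K] [IsAlgClosed K]
variable {X₀ : Scheme.{u}} (a : X₀ ⟶ Spec (CommRingCat.of k)) [IsFinite a]

instance finite_KPt : Finite (KPt K a) := Groth.Agent.Etbase.FinLiftSch.finite_points a _

theorem trace_galHM [Fact FinFr.PullExact.{u}] (σ : K ≃ₐ[k] K) (L : EtLam.Sheaf Λ X₀)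
    (hfin : ∀ ξ : KPt K a, Module.Finite Λ (HM (EtLam.pullback ξ.1 L) 0)) :
    LinearMap.trace Λ _ (galHM a σ L 0) =
      ∑ᶠ ξ : {ξ : KPt K a // act a σ ξ = ξ},
        LinearMap.trace Λ _ (ptGal a σ L 0 ξ.1 ξ.1 ξ.2) := by
  classical
  have : Fintype (KPt K a) := Fintype.ofFinite _
  let E := LinearEquiv.ofBijective (LinearMap.pi (fun ξ : KPt K a => toPt a L 0 ξ))
    (bijective_toPt a L)
  rw [← LinearMap.trace_conj' (galHM a σ L 0) E]
  let g : ∀ ξ : KPt K a, HM (EtLam.pullback ξ.1 L) 0 →ₗ[Λ] HM (EtLam.pullback ξ.1 L) 0 :=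
    fun ξ => if h : act a σ ξ = ξ then ptGal a σ L 0 ξ ξ h else 0
  rw [TracePi.trace_perm (E.conj (galHM a σ L 0)) (fun ξ => act a σ.symm ξ)
    (fun ξ => ptGal a σ L 0 (act a σ.symm ξ) ξ (act_act_symm a σ ξ)) ?_
    (Finset.univ.filter (fun ξ => act a σ ξ = ξ)) ?_ g ?_]
  · rw [finsum_eq_sum_of_fintype, Finset.sum_subtype (p := fun ξ => act a σ ξ = ξ) _
      (fun ξ => by rw [Finset.mem_filter]; exact ⟨fun h => h.2, fun h => ⟨Finset.mem_univ _, h⟩⟩)]
    refine Finset.sum_congr rfl fun ξ _ => ?_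
    exact congrArg _ (dif_pos ξ.2)
  · intro v ξ
    obtain ⟨w, rfl⟩ := E.surjective v
    rw [LinearEquiv.conj_apply_apply, E.symm_apply_apply]
    exact toPt_galHM a σ L 0 ξ w
  · intro ξ
    rw [Finset.mem_filter, act_symm_eq_iff]
    exact ⟨fun h => h.2, fun h => ⟨Finset.mem_univ _, h⟩⟩
  · intro ξ e v
    have e' : act a σ ξ = ξ := (act_symm_eq_iff a σ ξ).1 e
    have h1 : g ξ = ptGal a σ L 0 ξ ξ e' := dif_pos e'
    rw [h1]
    have h2 : ∀ (η : KPt K a) (h : act a σ η = ξ) (_ : η = ξ),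
        ptGal a σ L 0 η ξ h (v η) = ptGal a σ L 0 ξ ξ e' (v ξ) := by
      rintro η h rfl
      rfl
    exact h2 _ _ e

end trace

section loc

variable [CommRing Λ] {k : Type u} [Field k] {K : Type u} [Field K] [Algebra k K]

/-- The tautological `K`-point of `Spec k`. -/
noncomputable def tautPt : KPt K (𝟙 (Spec (CommRingCat.of k))) :=
  ⟨FinFr.specι k K, Category.comp_id _⟩

theorem act_tautPt (σ : K ≃ₐ[k] K) : act _ σ (tautPt (k := k) (K := K)) = tautPt :=
  Subtype.ext (FinFr.specMap_algEquiv_comp_specι σ)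

instance isIso_lf_tautPt : IsIso (lf (𝟙 (Spec (CommRingCat.of k))) (tautPt (k := k) (K := K))) := by
  refine ⟨FinFr.extStr K (𝟙 _), lf_extStr _ _, ?_⟩
  apply pullback.hom_ext
  · rw [Category.assoc]
    refine (congrArg (_ ≫ ·) (lf_extπ _ _)).trans ?_
    rw [Category.id_comp]
    change pullback.snd _ _ ≫ FinFr.specι k K = _
    rw [← pullback.condition, Category.comp_id]
  · rw [Category.assoc]
    refine (congrArg (_ ≫ ·) (lf_extStr _ _)).trans ?_
    rw [Category.id_comp]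
    exact Category.comp_id _

variable {X₀ : Scheme.{u}} {a : X₀ ⟶ Spec (CommRingCat.of k)}

/-- The comparison between the two descriptions of the stalk at a rational point. -/
noncomputable def locCmp (x : FinFr.RatPt a) (L : EtLam.Sheaf Λ X₀) (n : ℕ) :
    HM (EtLam.pullback (FinFr.extπ K (𝟙 (Spec (CommRingCat.of k)))) (EtLam.pullback x.1 L)) n →ₗ[Λ]
      HM (EtLam.pullback (ofRat (K := K) x).1 L) n :=
  chgHM (FinFr.specι k K) x.1 (ofRat (K := K) x).1 rfl L n ∘ₗ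
    viaHM (lf (𝟙 _) tautPt) (FinFr.extπ K (𝟙 _)) (FinFr.specι k K) (lf_extπ _ _)
      (EtLam.pullback x.1 L) n

theorem bijective_locCmp (x : FinFr.RatPt a) (L : EtLam.Sheaf Λ X₀) (n : ℕ) :
    Function.Bijective (locCmp (K := K) x L n) :=
  (bijective_chgHM _ _ _ _ L n).comp (bijective_viaHM _ _ _ _ _ n)

theorem locCmp_galHM [Fact FinFr.PullExact.{u}] (σ : K ≃ₐ[k] K) (x : FinFr.RatPt a)
    (L : EtLam.Sheaf Λ X₀) (n : ℕ)
    (v : HM (EtLam.pullback (FinFr.extπ K (𝟙 (Spec (CommRingCat.of k)))) (EtLam.pullback x.1 L)) n) :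
    locCmp x L n (galHM (𝟙 _) σ (EtLam.pullback x.1 L) n v) =
      ptGal a σ L n (ofRat x) (ofRat x) (act_ofRat σ x) (locCmp x L n v) := by
  rw [galHM_eq]
  unfold locCmp ptGal
  rw [LinearMap.comp_apply, LinearMap.comp_apply]
  have h1 := viaHM_comp_apply (lf (𝟙 _) (tautPt (k := k) (K := K))) (FinFr.galAct (𝟙 _) σ)
    (lf (𝟙 _) (tautPt (k := k) (K := K)) ≫ FinFr.galAct (𝟙 _) σ) (FinFr.specι k K)
    (FinFr.extπ K (𝟙 _)) (FinFr.extπ K (𝟙 _)) rfl (lf_extπ _ _) (FinFr.galAct_fst _ σ)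
    (by rw [Category.assoc, FinFr.galAct_fst]; exact lf_extπ _ _) (EtLam.pullback x.1 L) n v
  have e : Spec.map (CommRingCat.ofHom (σ : K →+* K)) ≫ lf (𝟙 _) (tautPt (k := k) (K := K)) =
      lf (𝟙 _) (tautPt (k := k) (K := K)) ≫ FinFr.galAct (𝟙 _) σ := by
    rw [lf_galAct, act_tautPt]
  have h2 := viaHM_comp_apply (Spec.map (CommRingCat.ofHom (σ : K →+* K)))
    (lf (𝟙 _) (tautPt (k := k) (K := K)))
    (lf (𝟙 _) (tautPt (k := k) (K := K)) ≫ FinFr.galAct (𝟙 _) σ) (FinFr.specι k K)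
    (FinFr.specι k K) (FinFr.extπ K (𝟙 _)) e (FinFr.specMap_algEquiv_comp_specι σ)
    (lf_extπ _ _)
    (by rw [Category.assoc, FinFr.galAct_fst]; exact lf_extπ _ _) (EtLam.pullback x.1 L) n v
  rw [h1, ← h2]
  exact (viaHM_chg_apply (Spec.map (CommRingCat.ofHom (σ : K →+* K))) (FinFr.specι k K) x.1
    (FinFr.specι k K) (ofRat (K := K) x).1 (ofRat (K := K) x).1
    (FinFr.specMap_algEquiv_comp_specι σ) rfl
    (congrArg Subtype.val (act_ofRat σ x)) rfl L n _).symm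

variable [Fact FinFr.PullExact.{u}]

theorem trace_ptGal_ofRat (σ : K ≃ₐ[k] K) (x : FinFr.RatPt a)
    (L : EtLam.Sheaf Λ X₀) (n : ℕ) :
    LinearMap.trace Λ _ (ptGal a σ L n (ofRat x) (ofRat x) (act_ofRat σ x)) =
      LinearMap.trace Λ _ (galHM (K := K) (𝟙 (Spec (CommRingCat.of k))) σ
        (EtLam.pullback x.1 L) n) := by
  let E := LinearEquiv.ofBijective (locCmp (K := K) x L n) (bijective_locCmp x L n)
  rw [← LinearMap.trace_conj' _ E]
  congr 1
  refine LinearMap.ext fun v => ?_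
  obtain ⟨w, rfl⟩ := E.surjective v
  rw [LinearEquiv.conj_apply_apply, E.symm_apply_apply]
  exact (locCmp_galHM σ x L n w).symm

end loc

end Groth.Agent.Sga4h.H927.PtTrace
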